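import Mathlib
import Cfsg.Agent.Lib.ChevOrder.TorusCard

/-!
Linear algebra for the self-centralizing tori: an integer matrix of finite order having, modulo a
prime `ℓ` not dividing its order, the eigenvalue `q` of multiplicative order `d` with `φ(d)` equal
to the size, has characteristic polynomial `Φ_d`; counts of the kernels on powers of a cyclic group.
-/

set_option autoImplicit false
set_option linter.unusedSectionVars false

namespace Cfsg.Agent.Lib.ChevTori.LinAlg

open Polynomial Matrix Cfsg.Agent.Lib.ChevOrder.TorusCard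

variable {l : ℕ}

/-- Rational version of an integer matrix. -/
noncomputable abbrev toQ (M : Matrix (Fin l) (Fin l) ℤ) : Matrix (Fin l) (Fin l) ℚ :=
  M.map (Int.castRingHom ℚ)

/-- An irreducible polynomial of degree `l` annihilating a nonzero vector: the vector is cyclic. -/
theorem exists_poly {A : Matrix (Fin l) (Fin l) ℚ} {p : ℚ[X]} (hp : Irreducible p)
    (hdeg : p.natDegree = l) {v : Fin l → ℚ} (hv : v ≠ 0) (h0 : (aeval A p) *ᵥ v = 0)
    (y : Fin l → ℚ) : ∃ f : ℚ[X], y = (aeval A f) *ᵥ v := by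
  let φ : ℚ[X] →ₗ[ℚ] (Fin l → ℚ) :=
    { toFun := fun f => (aeval A f) *ᵥ v
      map_add' := fun a b => by rw [map_add, Matrix.add_mulVec]
      map_smul' := fun c a => by
        rw [map_smul, Matrix.smul_mulVec, RingHom.id_apply] }
  have hφ : ∀ f, φ f = (aeval A f) *ᵥ v := fun _ => rfl
  let ψ := φ.domRestrict (degreeLT ℚ l)
  have hinj : Function.Injective ψ := by
    rw [← LinearMap.ker_eq_bot, LinearMap.ker_eq_bot']
    rintro ⟨f, hf⟩ hψ
    have hψ' : (aeval A f) *ᵥ v = 0 := hψ
    by_contra hne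
    have hf0 : f ≠ 0 := fun h => hne (Subtype.ext h)
    have hnd : ¬ p ∣ f := by
      intro hd
      have h1 := Polynomial.natDegree_le_of_dvd hd hf0
      have h2 := Polynomial.mem_degreeLT.mp hf
      have h3 : f.natDegree < l := by
        rw [Polynomial.degree_eq_natDegree hf0] at h2
        exact_mod_cast h2
      omega
    obtain ⟨a, b, hab⟩ := (hp.coprime_iff_not_dvd).2 hnd
    have h4 : (aeval A (a * p + b * f)) *ᵥ v = v := by
      rw [hab, map_one, Matrix.one_mulVec]
    rw [map_add, map_mul, map_mul, Matrix.add_mulVec, ← Matrix.mulVec_mulVec, ← Matrix.mulVec_mulVec,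
      h0, hψ', Matrix.mulVec_zero, Matrix.mulVec_zero, add_zero] at h4
    exact hv h4.symm
  have hfr : Module.finrank ℚ (degreeLT ℚ l) = Module.finrank ℚ (Fin l → ℚ) := by
    rw [(degreeLTEquiv ℚ l).finrank_eq]
  have hsurj := (LinearMap.injective_iff_surjective_of_finrank_eq_finrank hfr).1 hinj
  obtain ⟨⟨f, _⟩, hf⟩ := hsurj y
  exact ⟨f, hf.symm⟩

/-- The reduction of an integer vector modulo `ℓ`. -/
noncomputable abbrev red (ℓ : ℕ) (v : Fin l → ℤ) : Fin l → ZMod ℓ := fun i => (v i : ZMod ℓ)

theorem red_mulVec (ℓ : ℕ) (M : Matrix (Fin l) (Fin l) ℤ) (v : Fin l → ℤ) :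
    red ℓ (M *ᵥ v) = (M.map (Int.castRingHom (ZMod ℓ))) *ᵥ red ℓ v := by
  funext i
  simp [red, Matrix.mulVec, dotProduct]

/-- Polynomial in a matrix applied to an eigenvector modulo `ℓ`. -/
theorem red_aeval (ℓ : ℕ) {M : Matrix (Fin l) (Fin l) ℤ} {b : Fin l → ℤ} {q : ℤ}
    (h : red ℓ (M *ᵥ b) = (q : ZMod ℓ) • red ℓ b) (f : ℤ[X]) :
    red ℓ ((aeval M f) *ᵥ b) = ((f.eval q : ℤ) : ZMod ℓ) • red ℓ b := by
  induction f using Polynomial.induction_on' with
  | add p r hp hr =>
    rw [map_add, Matrix.add_mulVec, eval_add, Int.cast_add, add_smul]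
    rw [← hp, ← hr]
    funext i
    simp [red]
  | monomial n a =>
    have hpow : ∀ n : ℕ, red ℓ ((M ^ n) *ᵥ b) = ((q : ZMod ℓ) ^ n) • red ℓ b := by
      intro n
      induction n with
      | zero => simp
      | succ n ih =>
        rw [pow_succ', ← Matrix.mulVec_mulVec, red_mulVec, ih, Matrix.mulVec_smul, ← red_mulVec, h,
          smul_smul, pow_succ]
    rw [aeval_monomial, eval_monomial]
    have e : (algebraMap ℤ (Matrix (Fin l) (Fin l) ℤ)) a * M ^ n = a • (M ^ n) := by
      rw [Algebra.smul_def]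
    rw [e, Matrix.smul_mulVec]
    funext i
    have := congrFun (hpow n) i
    simp only [red, Pi.smul_apply, smul_eq_mul] at this ⊢
    push_cast
    rw [this]
    ring


/-- From the integer relation to the rational one. -/
theorem toQ_aeval (M : Matrix (Fin l) (Fin l) ℤ) (f : ℤ[X]) :
    aeval (toQ M) (f.map (algebraMap ℤ ℚ)) = toQ (aeval M f) := by
  rw [aeval_map_algebraMap]
  have := aeval_algHom_apply (R := ℤ)
    ((Int.castRingHom ℚ).mapMatrix.toIntAlgHom : Matrix (Fin l) (Fin l) ℤ →ₐ[ℤ] _) M f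
  exact this

theorem toQ_inj {A B : Matrix (Fin l) (Fin l) ℤ} (h : toQ A = toQ B) : A = B := by
  ext i j
  have := congrFun (congrFun h i) j
  simpa using this

/-- Casting a vector to the rationals. -/
noncomputable abbrev castV (v : Fin l → ℤ) : Fin l → ℚ := fun i => (v i : ℚ)

theorem castV_mulVec (M : Matrix (Fin l) (Fin l) ℤ) (v : Fin l → ℤ) :
    castV (M *ᵥ v) = toQ M *ᵥ castV v := by
  funext i
  simp [castV, Matrix.mulVec, dotProduct]

theorem castV_ne {v : Fin l → ℤ} (h : v ≠ 0) : castV v ≠ 0 := by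
  intro h2
  apply h
  funext i
  have := congrFun h2 i
  simpa using this

theorem castV_inj {v w : Fin l → ℤ} (h : castV v = castV w) : v = w := by
  funext i
  have := congrFun h i
  simpa using this

/-- Vanishing on all vectors. -/
theorem eq_zero_of_mulVec {N : Matrix (Fin l) (Fin l) ℚ} (h : ∀ y, N *ᵥ y = 0) : N = 0 := by
  ext i j
  have := congrFun (h (Pi.single j 1)) i
  simpa using this

section Main

variable {M : Matrix (Fin l) (Fin l) ℤ} {d e ℓ : ℕ} {q : ℤ} [hℓ : Fact ℓ.Prime]

/-- The eigenvalue condition forces `Φ_d(M) = 0`. -/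
theorem cyclotomic_eq_zero (he : 0 < e) (hMe : M ^ e = 1) (hℓe : ¬ ℓ ∣ e)
    (hdφ : d.totient = l) (hprim : IsPrimitiveRoot (q : ZMod ℓ) d) {b : Fin l → ℤ}
    (hb : red ℓ b ≠ 0) (hMb : red ℓ (M *ᵥ b) = (q : ZMod ℓ) • red ℓ b) :
    aeval M (cyclotomic d ℤ) = 0 := by
  classical
  -- `d ∣ e`
  have hqe : (q : ZMod ℓ) ^ e = 1 := by
    have h1 := red_aeval ℓ hMb (X ^ e)
    rw [map_pow, aeval_X, hMe, Matrix.one_mulVec, eval_pow, eval_X] at h1
    obtain ⟨i, hi⟩ : ∃ i, red ℓ b i ≠ 0 := by
      by_contra hcon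
      push Not at hcon
      exact hb (funext hcon)
    have h2 := congrFun h1 i
    simp only [Pi.smul_apply, smul_eq_mul] at h2
    push_cast at h2
    have h3 : ((q : ZMod ℓ) ^ e - 1) * red ℓ b i = 0 := by
      rw [sub_mul, one_mul, ← h2, sub_self]
    rcases mul_eq_zero.mp h3 with h4 | h4
    · exact sub_eq_zero.mp h4
    · exact absurd h4 hi
  have hde : d ∣ e := hprim.dvd_of_pow_eq_one e hqe
  have hdpos : 0 < d := Nat.pos_of_dvd_of_pos hde he
  -- the complementary factor
  let P : ℤ[X] := ∏ δ ∈ e.divisors.erase d, cyclotomic δ ℤ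
  have hP : cyclotomic d ℤ * P = X ^ e - 1 := by
    rw [← prod_cyclotomic_eq_X_pow_sub_one he ℤ]
    exact Finset.mul_prod_erase e.divisors (fun δ => cyclotomic δ ℤ)
      (Nat.mem_divisors.mpr ⟨hde, he.ne'⟩)
  have hPq : ((P.eval q : ℤ) : ZMod ℓ) ≠ 0 := by
    rw [eval_prod, Int.cast_prod, Finset.prod_ne_zero_iff]
    intro δ hδ
    obtain ⟨hδd, hδe⟩ := Finset.mem_erase.mp hδ
    have hδe' := (Nat.mem_divisors.mp hδe).1
    have hne : ((δ : ℕ) : ZMod ℓ) ≠ 0 := by
      intro h0
      rw [ZMod.natCast_eq_zero_iff] at h0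
      exact hℓe (h0.trans hδe')
    haveI : NeZero ((δ : ℕ) : ZMod ℓ) := ⟨hne⟩
    intro h0
    have h1 : (cyclotomic δ (ZMod ℓ)).IsRoot (q : ZMod ℓ) := by
      rw [IsRoot.def, ← map_cyclotomic_int δ (ZMod ℓ)]
      rw [show (q : ZMod ℓ) = (Int.castRingHom (ZMod ℓ)) q by simp, eval_map, eval₂_hom]
      simpa using h0
    have h2 := isRoot_cyclotomic_iff.mp h1
    exact hδd (h2.unique hprim)
  -- the vector `w`
  set w : Fin l → ℤ := (aeval M P) *ᵥ b with hw
  have hw0 : w ≠ 0 := by
    intro h0
    have h1 := red_aeval ℓ hMb P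
    rw [← hw, h0] at h1
    obtain ⟨i, hi⟩ : ∃ i, red ℓ b i ≠ 0 := by
      by_contra hcon
      push Not at hcon
      exact hb (funext hcon)
    have h2 := congrFun h1 i
    simp only [red, Pi.zero_apply, Int.cast_zero, Pi.smul_apply, smul_eq_mul] at h2
    rcases mul_eq_zero.mp h2.symm with h3 | h3
    · exact hPq h3
    · exact hi h3
  have hw1 : (aeval M (cyclotomic d ℤ)) *ᵥ w = 0 := by
    rw [hw, Matrix.mulVec_mulVec, ← map_mul, hP, map_sub, map_pow, aeval_X, hMe, map_one, sub_self,
      Matrix.zero_mulVec]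
  -- over the rationals
  have hirr := cyclotomic.irreducible_rat hdpos
  have hdeg : (cyclotomic d ℚ).natDegree = l := by rw [natDegree_cyclotomic, hdφ]
  have hmap : (cyclotomic d ℤ).map (algebraMap ℤ ℚ) = cyclotomic d ℚ := map_cyclotomic d _
  have hq0 : aeval (toQ M) (cyclotomic d ℚ) *ᵥ castV w = 0 := by
    rw [← hmap, toQ_aeval, ← castV_mulVec, hw1]
    funext i
    simp [castV]
  have hzero : aeval (toQ M) (cyclotomic d ℚ) = 0 := by
    apply eq_zero_of_mulVec
    intro y
    obtain ⟨f, rfl⟩ := exists_poly hirr hdeg (castV_ne hw0) hq0 y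
    rw [Matrix.mulVec_mulVec, ← map_mul, mul_comm, map_mul, ← Matrix.mulVec_mulVec, hq0,
      Matrix.mulVec_zero]
  apply toQ_inj
  rw [← toQ_aeval, hmap, hzero]
  ext i j
  simp

/-- The characteristic polynomial. -/
theorem charpoly_eq {d : ℕ} (hdpos : 0 < d) (hdφ : d.totient = l)
    (h : aeval M (cyclotomic d ℤ) = 0) : M.charpoly = cyclotomic d ℤ := by
  have hmap : (cyclotomic d ℤ).map (algebraMap ℤ ℚ) = cyclotomic d ℚ := map_cyclotomic d _
  have h1 : aeval (toQ M) (cyclotomic d ℚ) = 0 := by
    rw [← hmap, toQ_aeval, h]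
    ext i j
    simp
  have hirr := cyclotomic.irreducible_rat hdpos
  have hl : 0 < l := by rw [← hdφ]; exact Nat.totient_pos.mpr hdpos
  haveI : Nonempty (Fin l) := ⟨⟨0, hl⟩⟩
  have h2 := minpoly.eq_of_irreducible_of_monic hirr h1 (cyclotomic.monic d ℚ)
  have h3 : cyclotomic d ℚ ∣ (toQ M).charpoly := by
    rw [h2]
    exact minpoly.dvd _ _ (Matrix.aeval_self_charpoly _)
  have h4 := eq_of_monic_of_dvd_of_natDegree_le (cyclotomic.monic d ℚ) (Matrix.charpoly_monic _) h3
    (by rw [Matrix.charpoly_natDegree_eq_dim, natDegree_cyclotomic, hdφ]; simp)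
  apply Polynomial.map_injective (algebraMap ℤ ℚ) (RingHom.injective_int _)
  rw [hmap, ← h4]
  exact (Matrix.charpoly_map M (Int.castRingHom ℚ)).symm

/-- Two eigenvectors modulo `s`: the eigenspace has at most `s` elements when `s ∤ d`. -/
theorem card_eigen_le {s d : ℕ} [hs : Fact s.Prime] (hsd : ¬ s ∣ d) (h : M.charpoly = cyclotomic d ℤ)
    (lam : ZMod s) :
    Nat.card {a : Fin l → ZMod s // (M.map (Int.castRingHom (ZMod s))) *ᵥ a = lam • a} ≤ s := by
  classical
  set Mb := M.map (Int.castRingHom (ZMod s)) with hMb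
  have hc : Mb.charpoly = cyclotomic d (ZMod s) := by
    rw [hMb, Matrix.charpoly_map, h, map_cyclotomic]
  have hne : ((d : ℕ) : ZMod s) ≠ 0 := by
    intro h0
    rw [ZMod.natCast_eq_zero_iff] at h0
    exact hsd h0
  haveI : NeZero ((d : ℕ) : ZMod s) := ⟨hne⟩
  have hsep := separable_cyclotomic d (ZMod s)
  let φ : Module.End (ZMod s) (Fin l → ZMod s) := Matrix.toLin' Mb
  have h1 : Module.finrank (ZMod s) (φ.eigenspace lam) ≤ 1 := by
    refine (LinearMap.finrank_eigenspace_le φ lam).trans ?_
    have h2 : LinearMap.charpoly φ = cyclotomic d (ZMod s) := by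
      rw [← hc]
      exact Matrix.charpoly_toLin' Mb
    rw [h2]
    exact rootMultiplicity_le_one_of_separable hsep lam
  have h3 : Nat.card (φ.eigenspace lam) ≤ s := by
    rw [Module.natCard_eq_pow_finrank (K := ZMod s), Nat.card_zmod]
    calc s ^ Module.finrank (ZMod s) (φ.eigenspace lam) ≤ s ^ 1 :=
          Nat.pow_le_pow_right hs.out.pos h1
      _ = s := pow_one s
  refine le_trans (le_of_eq (Nat.card_congr ?_)) h3
  refine Equiv.subtypeEquivRight fun a => ?_
  rw [Module.End.mem_eigenspace_iff]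
  rfl

end Main

section Smith

/-- Existence of a Smith form. -/
theorem exists_smith {B : Matrix (Fin l) (Fin l) ℤ} (hdet : B.det ≠ 0) :
    ∃ (U U' V V' : Matrix (Fin l) (Fin l) ℤ) (d : Fin l → ℕ), U' * U = 1 ∧ V * V' = 1 ∧ V' * V = 1 ∧
      U * B * V = Matrix.diagonal (fun i => (d i : ℤ)) := by
  classical
  let bE := Pi.basisFun ℤ (Fin l)
  have hinj : Function.Injective B.mulVecLin := by
    rw [← LinearMap.ker_eq_bot, LinearMap.ker_eq_bot']
    intro v hv
    exact Matrix.eq_zero_of_mulVec_eq_zero hdet hv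
  let N := LinearMap.range B.mulVecLin
  have hrk : Module.finrank ℤ N = Module.finrank ℤ (Fin l → ℤ) := LinearMap.finrank_range_of_inj hinj
  let b' := Submodule.smithNormalFormTopBasis bE hrk
  let ab := Submodule.smithNormalFormBotBasis bE hrk
  let a := Submodule.smithNormalFormCoeffs bE hrk
  have hab : ∀ i, (ab i : Fin l → ℤ) = a i • b' i := Submodule.smithNormalFormBotBasis_def bE hrk
  let e : (Fin l → ℤ) ≃ₗ[ℤ] N := LinearEquiv.ofInjective B.mulVecLin hinj
  let bN := bE.map e
  have hbN : ∀ j, (bN j : Fin l → ℤ) = B *ᵥ bE j := fun j => rfl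
  -- the sign correction
  let S : Matrix (Fin l) (Fin l) ℤ := Matrix.diagonal fun i => Int.sign (a i)
  have hane : ∀ i, a i ≠ 0 := by
    intro i h0
    have h1 : ab i = 0 := by
      apply Subtype.ext
      rw [hab, h0, zero_smul]
      rfl
    exact ab.ne_zero i h1
  have hSS : S * S = 1 := by
    rw [Matrix.diagonal_mul_diagonal, ← Matrix.diagonal_one]
    congr 1
    funext i
    rcases Int.lt_or_gt_of_ne (hane i) with h | h
    · rw [Int.sign_eq_neg_one_of_neg h]; rfl
    · rw [Int.sign_eq_one_of_pos h]; rfl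
  let U' : Matrix (Fin l) (Fin l) ℤ := bE.toMatrix b'
  let U : Matrix (Fin l) (Fin l) ℤ := b'.toMatrix bE
  let V₀ : Matrix (Fin l) (Fin l) ℤ := bN.toMatrix ab
  let V₀' : Matrix (Fin l) (Fin l) ℤ := ab.toMatrix bN
  have hU'U : U' * U = 1 := Module.Basis.toMatrix_mul_toMatrix_flip bE b'
  have hUU' : U * U' = 1 := Module.Basis.toMatrix_mul_toMatrix_flip b' bE
  have hV : V₀ * V₀' = 1 := Module.Basis.toMatrix_mul_toMatrix_flip bN ab
  have hV' : V₀' * V₀ = 1 := Module.Basis.toMatrix_mul_toMatrix_flip ab bN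
  have hBV : B * V₀ = U' * Matrix.diagonal a := by
    ext p i
    have h1 : (ab i : Fin l → ℤ) = ∑ j, V₀ j i • (bN j : Fin l → ℤ) := by
      have h2 := bN.sum_repr (ab i)
      conv_lhs => rw [← h2]
      rw [Submodule.coe_sum]
      rfl
    have h4 := congrFun h1 p
    rw [hab] at h4
    simp only [Pi.smul_apply, smul_eq_mul, Finset.sum_apply, hbN] at h4
    rw [Matrix.mul_apply, Matrix.mul_diagonal]
    have h5 : ∀ j, B *ᵥ bE j = fun x => B x j := by
      intro j
      funext x
      simp [bE, Matrix.mulVec, dotProduct, Pi.single_apply]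
    simp only [h5] at h4
    have h6 : U' p i = b' i p := by
      simp [U', bE, Module.Basis.toMatrix_apply]
    rw [h6]
    rw [mul_comm]
    rw [h4]
    apply Finset.sum_congr rfl
    intro j _
    ring
  refine ⟨U, U', V₀ * S, S * V₀', fun i => (a i).natAbs, hU'U, ?_, ?_, ?_⟩
  · calc V₀ * S * (S * V₀') = V₀ * (S * S) * V₀' := by simp only [Matrix.mul_assoc]
      _ = 1 := by rw [hSS, Matrix.mul_one, hV]
  · calc S * V₀' * (V₀ * S) = S * (V₀' * V₀) * S := by simp only [Matrix.mul_assoc]
      _ = 1 := by rw [hV', Matrix.mul_one, hSS]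
  · calc U * B * (V₀ * S) = U * (B * V₀) * S := by simp only [Matrix.mul_assoc]
      _ = (U * U') * (Matrix.diagonal a * S) := by rw [hBV]; simp only [Matrix.mul_assoc]
      _ = Matrix.diagonal (fun i => (((a i).natAbs : ℕ) : ℤ)) := by
        rw [hUU', Matrix.one_mul, Matrix.diagonal_mul_diagonal]
        congr 1
        funext i
        exact Int.mul_sign_self (a i)

/-- The kernel of an integer matrix on a power of a cyclic group, when the determinant divides
the order. -/
theorem card_ker_eq {μ : Type*} [CommGroup μ] [Finite μ] [IsCyclic μ]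
    {B : Matrix (Fin l) (Fin l) ℤ} (hdet : B.det ≠ 0) (hdvd : B.det.natAbs ∣ Nat.card μ) :
    Nat.card (actM (μ := μ) B).ker = B.det.natAbs := by
  classical
  obtain ⟨U, U', V, V', d, hU, hV, hV', h⟩ := exists_smith hdet
  rw [card_ker_of_smith d hU hV hV' h]
  have hUu : (U.det).natAbs = 1 := by
    have := congrArg Matrix.det hU
    rw [Matrix.det_mul, Matrix.det_one] at this
    exact Int.isUnit_iff_natAbs_eq.mp (IsUnit.of_mul_eq_one _ (by rwa [mul_comm] at this))
  have hVu : (V.det).natAbs = 1 := by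
    have := congrArg Matrix.det hV
    rw [Matrix.det_mul, Matrix.det_one] at this
    exact Int.isUnit_iff_natAbs_eq.mp (IsUnit.of_mul_eq_one _ this)
  have hprod : B.det.natAbs = ∏ i, d i := by
    have := congrArg Matrix.det h
    rw [Matrix.det_mul, Matrix.det_mul, Matrix.det_diagonal] at this
    have h2 := congrArg Int.natAbs this
    rw [Int.natAbs_mul, Int.natAbs_mul, hUu, hVu, one_mul, mul_one] at h2
    rw [h2, ← Nat.cast_prod, Int.natAbs_natCast]
  rw [hprod]
  apply Finset.prod_congr rfl
  intro i _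
  apply Nat.gcd_eq_right
  exact (Finset.dvd_prod_of_mem _ (Finset.mem_univ i)).trans (hprod ▸ hdvd)

end Smith

section Cyc

variable {G : Type*} [CommGroup G] [Finite G]

/-- A finite abelian group with small prime torsion is cyclic. -/
theorem isCyclic_of_prime_torsion (h : ∀ s : ℕ, s.Prime → Nat.card (powMonoidHom s : G →* G).ker ≤ s) :
    IsCyclic G := by
  classical
  have key : ∀ n : ℕ, 0 < n → Nat.card (powMonoidHom n : G →* G).ker ≤ n := by
    intro n
    induction n using Nat.strong_induction_on with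
    | _ n ih =>
      intro hn
      by_cases hn1 : n = 1
      · subst hn1
        have : (powMonoidHom 1 : G →* G).ker = ⊥ := by
          ext x
          simp [MonoidHom.mem_ker]
        rw [this]
        simp
      · obtain ⟨s, hs, m, rfl⟩ := Nat.exists_prime_and_dvd hn1
        have hm : 0 < m := Nat.pos_of_mul_pos_left hn |> fun h => by
          rcases Nat.eq_zero_or_pos m with h0 | h0
          · subst h0; simp at hn
          · exact h0
        have hlt : m < s * m := by
          have := hs.two_le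
          nlinarith
        have h1 := ih m hlt hm
        have h2 := h s hs
        let f : (powMonoidHom (s * m) : G →* G).ker →* (powMonoidHom m : G →* G).ker :=
          { toFun := fun x => ⟨x.1 ^ s, by
              have := x.2
              rw [MonoidHom.mem_ker] at this ⊢
              simp only [powMonoidHom_apply] at this ⊢
              rw [← pow_mul]
              exact this⟩
            map_one' := by
              apply Subtype.ext
              simp
            map_mul' := fun a b => by
              apply Subtype.ext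
              simp [mul_pow] }
        have h3 : Nat.card (powMonoidHom (s * m) : G →* G).ker = Nat.card f.ker * Nat.card f.range := by
          have h6 := Subgroup.card_mul_index f.ker
          rw [Subgroup.index_ker] at h6
          exact h6.symm
        have h4 : Nat.card f.ker ≤ Nat.card (powMonoidHom s : G →* G).ker := by
          refine Nat.card_le_card_of_injective
            (fun x => (⟨x.1.1, by
              have := x.2
              rw [MonoidHom.mem_ker] at this ⊢
              have h5 := congrArg Subtype.val this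
              simpa [f] using h5⟩ : (powMonoidHom s : G →* G).ker)) ?_
          intro a b hab
          apply Subtype.ext
          apply Subtype.ext
          exact congrArg (fun z : (powMonoidHom s : G →* G).ker => (z : G)) hab
        have h5 : Nat.card f.range ≤ Nat.card (powMonoidHom m : G →* G).ker := by
          exact Subgroup.card_le_card_group _
        rw [h3]
        exact Nat.mul_le_mul (h4.trans h2) (h5.trans h1)
  let _ := Fintype.ofFinite G
  apply isCyclic_of_card_pow_eq_one_le
  intro n hn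
  have := key n hn
  rw [Nat.card_eq_fintype_card] at this
  refine le_trans (le_of_eq ?_) this
  rw [← Fintype.card_coe]
  apply Fintype.card_congr
  refine Equiv.subtypeEquivRight fun x => ?_
  simp [MonoidHom.mem_ker]

end Cyc

end Cfsg.Agent.Lib.ChevTori.LinAlg
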