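import Cfsg.Agent.Lib.StChar.Top
import Cfsg.Agent.Lib.ChevOrder.TorusCard
import Cfsg.Agent.Lib.ChevTori.LinAlg
import Cfsg.Agent.Lib.ChevBN.Cent

/-!
The action of the Weyl group on the torus through integer matrices on the coroot lattice, and the
centralizers of regular torus elements.
-/

set_option autoImplicit false
set_option linter.unusedSectionVars false

namespace Cfsg.Agent.Lib.ChevTori.Act

open Cfsg Cfsg.Lie Cfsg.Agent.Lib.ChevBN.Elem Cfsg.Agent.Lib.ChevBN.Entries Cfsg.Agent.Lib.ChevBN.Table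
open Cfsg.Agent.Lib.ChevBN.Collect Cfsg.Agent.Lib.ChevBN.Rel Cfsg.Agent.Lib.ChevBN.Torus
open Cfsg.Agent.Lib.ChevBN.Monomial Cfsg.Agent.Lib.ChevBN.Core Cfsg.Agent.Lib.ChevBN.Pair
open Cfsg.Agent.Lib.ChevBN.Stmts Cfsg.Agent.Lib.ChevBN.BruhatForm Cfsg.Agent.Lib.ChevBN.Opp
open Cfsg.Agent.Lib.ChevTri.Level Cfsg.Agent.Lib.ChevTri.Datum
open Cfsg.Agent.Lib.BNPair.Basic Cfsg.Agent.Lib.BNPair.Parabolic
open Cfsg.Agent.Lib.ChevOrder.BNCount Cfsg.Agent.Lib.ChevOrder.Chev
open Cfsg.Agent.Lib.ChevOrder.TorusCard Cfsg.Agent.Lib.ChevBN.Levi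
open Cfsg.Agent.Lib.BNPair.CoxeterExchange Cfsg.Agent.Lib.StChar.Top

variable {D : ChevalleyDatum} {K : Type*} [Field K] {η : ℕ → ℕ → ℤ}
variable (hR : Sys D K η) (hT : Tbl D)

/-- The matrix of an element of the Weyl group on the coroot lattice. -/
noncomputable def matW (w : WW (pair hR hT)) : Matrix (Fin D.rank) (Fin D.rank) ℤ :=
  Matrix.of fun i j => cr D (σW hR hT w (alphaR hT j)) i

theorem matW_apply (w : WW (pair hR hT)) (i j : Fin D.rank) :
    matW hR hT w i j = cr D (σW hR hT w (alphaR hT j)) i := rfl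

theorem cr_alpha (i j : Fin D.rank) : cr D (alphaR hT j) i = if j = i then 1 else 0 := by
  have := hT.coroot_simple j j.2 i i.2
  rw [show ((alphaR hT j : Fin D.nroots) : ℕ) = D.simple j from rfl, this]
  simp [Fin.ext_iff]

theorem matW_one : matW hR hT 1 = 1 := by
  ext i j
  rw [matW_apply, map_one, Equiv.Perm.one_apply, cr_alpha, Matrix.one_apply]
  simp [eq_comm]

theorem matW_mul (w w' : WW (pair hR hT)) :
    matW hR hT (w * w') = matW hR hT w * matW hR hT w' := by
  ext i j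
  rw [matW_apply, map_mul, Equiv.Perm.mul_apply, cr_σW hR hT w i.2 (σW hR hT w' (alphaR hT j)),
    Matrix.mul_apply]
  apply Finset.sum_congr rfl
  intro k _
  rw [matW_apply, matW_apply, mul_comm]

/-- The matrix representation of the Weyl group. -/
noncomputable def matHom : WW (pair hR hT) →* Matrix (Fin D.rank) (Fin D.rank) ℤ where
  toFun := matW hR hT
  map_one' := matW_one hR hT
  map_mul' := matW_mul hR hT

@[simp] theorem matHom_apply (w : WW (pair hR hT)) : matHom hR hT w = matW hR hT w := rfl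

/-- The pairing is invariant. -/
theorem Ad_σW (w : WW (pair hR hT)) (r s : Fin D.nroots) :
    Ad D (cr D (σW hR hT w r)) (σW hR hT w s) = Ad D (cr D r) s := by
  obtain ⟨l, rfl, -⟩ := (setupW hR hT).ex w
  induction l generalizing r s with
  | nil => simp
  | cons i l ih =>
    rw [pr_cons, map_mul, σW_fW, Equiv.Perm.mul_apply, Equiv.Perm.mul_apply, ← ih r s,
      Tbl.wPerm_val, Tbl.wPerm_val]
    have h1 := Tbl.Ad_w hT i.2 (σW hR hT (pr (fW hR hT) l) r).isLt
      (hT.w_lt i i.2 _ (σW hR hT (pr (fW hR hT) l) s).isLt)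
    rw [hT.w_w i i.2 _ (σW hR hT (pr (fW hR hT) l) s).isLt] at h1
    exact h1.symm

/-- The values of the character after the action of the matrix. -/
theorem chi_actM (w : WW (pair hR hT)) (c : Fin D.rank → Kˣ) (s : Fin D.nroots) :
    chi D (ext (actM (matW hR hT w) c)) (σW hR hT w s) = chi D (ext c) s := by
  rw [chi_ext, chi_ext]
  congr 1
  simp only [actM_apply]
  simp_rw [← Finset.prod_zpow, ← zpow_mul]
  rw [Finset.prod_comm]
  apply Finset.prod_congr rfl
  intro k _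
  rw [← zpow_sum_aux]
  congr 1
  have h1 := Ad_σW hR hT w (alphaR hT k) s
  rw [Ad_eq_sum, Ad_eq_sum, Finset.sum_range, Finset.sum_range] at h1
  have h2 : ∑ i : Fin D.rank, cr D (alphaR hT k) i * D.cartan i s = D.cartan k s := by
    rw [Finset.sum_eq_single k]
    · rw [cr_alpha, if_pos rfl, one_mul]
    · intro b _ hb
      rw [cr_alpha, if_neg (Ne.symm hb), zero_mul]
    · simp
  rw [h2] at h1
  rw [← h1]
  rfl

/-- Conjugation of torus elements by elements of `N`. -/
theorem conj_tmap (n : ↥(pair hR hT).N) (c : Fin D.rank → Kˣ) :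
    ((n : ↥(D.group K)) : GL D.Idx K) * (tmap hT hR c : GL D.Idx K) *
        ((n : ↥(D.group K)) : GL D.Idx K)⁻¹ =
      (tmap hT hR (actM (matW hR hT (QuotientGroup.mk n)) c) : GL D.Idx K) := by
  set w : WW (pair hR hT) := QuotientGroup.mk n with hw
  set N₀ : GL D.Idx K := ((n : ↥(D.group K)) : GL D.Idx K) with hN₀
  rw [mul_inv_eq_iff_eq_mul]
  apply Units.ext
  rw [Units.val_mul, Units.val_mul]
  have e1 : ((tmap hT hR c : GL D.Idx K) : Matrix D.Idx D.Idx K) =
      dgMat D (fun s => chi D (ext c) s) := coe_hP hR (fun j _ => ext_ne c j)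
  have e2 : ((tmap hT hR (actM (matW hR hT w) c) : GL D.Idx K) : Matrix D.Idx D.Idx K) =
      dgMat D (fun s => chi D (ext (actM (matW hR hT w) c)) s) := coe_hP hR (fun j _ => ext_ne _ j)
  rw [e1, e2]
  have hm : IsMono ((N₀ : GL D.Idx K) : Matrix D.Idx D.Idx K) :=
    (toMono hR hT n).2
  have hπ : σW hR hT w = permOf (toMono hR hT n) := σW_mk hR hT n
  ext row col
  rw [dgMat, dgMat, Matrix.mul_diagonal, Matrix.diagonal_mul]
  rcases col with j | s
  · rcases row with j' | u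
    · simp
    · rw [hm.1 j u]
      simp
  · rcases row with j' | u
    · rw [hm.2.1 j' s]
      simp
    · simp only [Sum.elim_inr]
      by_cases hu : u = σW hR hT w s
      · rw [hu, chi_actM hR hT w c s, mul_comm]
      · have h0 : (N₀ : Matrix D.Idx D.Idx K) (Sum.inr u) (Sum.inr s) = 0 :=
          permOf_spec (toMono hR hT n) s u (by rw [← hπ]; exact hu)
        rw [h0]
        simp

/-- A Weyl group element with trivial matrix is trivial. -/
theorem eq_one_of_matW (w : WW (pair hR hT)) (h : matW hR hT w = 1) : w = 1 := by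
  have hinv : matW hR hT w⁻¹ = 1 := by
    have h1 := matW_mul hR hT w⁻¹ w
    rw [inv_mul_cancel, matW_one, h, Matrix.mul_one] at h1
    exact h1.symm
  apply Cfsg.Agent.Lib.ChevBN.Cent.eq_one_of_no_desc hR hT
  intro i
  by_contra hcon
  have h2 : LL (pair hR hT) (fW hR hT i * w) < LL (pair hR hT) w :=
    lt_of_le_of_ne (not_lt.mp hcon) ((setupW hR hT).ne i w)
  have h3 := hK hR hT i w h2
  rw [← map_inv] at h3
  set r := σW hR hT w⁻¹ (alphaR hT i) with hr
  have h4 : cr D r i = 1 := by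
    have := congrFun (congrFun hinv i) i
    rw [matW_apply, Matrix.one_apply_eq] at this
    exact this
  rcases hT.pos_or_neg r.isLt with h5 | h5
  · exact h3 h5
  · have h6 := hT.pos_of_neg h5
    have h7 := cr_nonneg h6 i
    rw [hT.coroot_neg r r.isLt i i.2, h4] at h7
    omega

/-- An element of `N` which is trivial in the Weyl group is in the torus. -/
theorem mem_H_of_mk (n : ↥(pair hR hT).N) (h : (QuotientGroup.mk n : WW (pair hR hT)) = 1) :
    ((n : ↥(D.group K)) : GL D.Idx K) ∈ D.diagonalSubgroup K := by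
  have h1 := (QuotientGroup.eq_one_iff n).1 h
  have h2 := Subgroup.mem_subgroupOf.1 h1
  rw [← B_inf_N hR hT]
  exact ⟨(mem_PB hR hT).1 h2.1, (mem_PN hR hT).1 h2.2⟩

/-- The torus is normal in `N`. -/
theorem tmap_surj' {t : GL D.Idx K} (ht : t ∈ D.diagonalSubgroup K) :
    ∃ c : Fin D.rank → Kˣ, (tmap hT hR c : GL D.Idx K) = t := by
  obtain ⟨c, hc⟩ := tmap_surj hT hR ⟨t, ht⟩
  exact ⟨c, congrArg Subtype.val hc⟩

/-- Torus elements act on root elements through the character. -/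
theorem tmap_conj_X (c : Fin D.rank → Kˣ) {s : ℕ} (hs : s < D.nroots) (a : K) :
    (tmap hT hR c : GL D.Idx K) * X hR.toAddRel s a * (tmap hT hR c : GL D.Idx K)⁻¹ =
      X hR.toAddRel s (chi D (ext c) s * a) :=
  hP_conj hR (fun j _ => ext_ne c j) hs a

/-- A regular torus element has no fixed points on `U`. -/
theorem fixed_U_eq_one (c : Fin D.rank → Kˣ) (hreg : ∀ s < D.nroots, chi D (ext c) s ≠ 1)
    {u : GL D.Idx K} (hu : u ∈ D.posUnipotent K)
    (hfix : (tmap hT hR c : GL D.Idx K) * u * (tmap hT hR c : GL D.Idx K)⁻¹ = u) : u = 1 := by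
  have hu' : u ∈ gen hR.toAddRel {r | r ∈ D.posRoots} := by
    rwa [← posUnipotent_eq_list hR hT]
  have hpos : ∀ r ∈ D.posRoots, D.IsPosRoot r := fun r hr => mem_posRoots.mp hr
  obtain ⟨a, rfl⟩ := exists_ordered hT (commPos hR) _ posRoots_sorted hpos
    (posRoots_closed hR hT) u hu'
  have h1 : ∀ l : List ℕ, (∀ r ∈ l, r < D.nroots) →
      (tmap hT hR c : GL D.Idx K) * W hR.toAddRel (l.map fun r => (r, a r)) *
        (tmap hT hR c : GL D.Idx K)⁻¹ =
      W hR.toAddRel (l.map fun r => (r, chi D (ext c) r * a r)) := by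
    intro l
    induction l with
    | nil => intro _; simp
    | cons b l ih =>
      intro hl
      simp only [List.map_cons, W_cons]
      rw [← ih fun r hr => hl r (by simp [hr]), ← tmap_conj_X hR hT c (hl b (by simp))]
      group
  rw [h1 _ (fun r hr => (hpos r hr).1)] at hfix
  have h2 := ordered_unique (hA := hR.toAddRel) hT _ posRoots_sorted hpos _ _ hfix
  have h3 : ∀ l : List ℕ, (∀ r ∈ l, r ∈ D.posRoots) →
      W hR.toAddRel (l.map fun r => (r, a r)) = 1 := by
    intro l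
    induction l with
    | nil => intro _; simp
    | cons b l ih =>
      intro hl
      simp only [List.map_cons, W_cons]
      rw [ih fun r hr => hl r (by simp [hr]), mul_one]
      have h4 := h2 b (hl b (by simp))
      have h5 : a b = 0 := by
        have h6 : (chi D (ext c) b - 1) * a b = 0 := by
          rw [sub_mul, one_mul, h4, sub_self]
        rcases mul_eq_zero.mp h6 with h7 | h7
        · exact absurd (sub_eq_zero.mp h7) (hreg b (hpos b (hl b (by simp))).1)
        · exact h7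
      rw [h5, X_zero]
  exact h3 _ fun r hr => hr

/-- Torus elements normalize the subgroups `Un`. -/
theorem tmap_norm_Un (c : Fin D.rank → Kˣ) (n : GL D.Idx K) {u : GL D.Idx K} (hu : u ∈ Un D K n) :
    (tmap hT hR c : GL D.Idx K) * u * (tmap hT hR c : GL D.Idx K)⁻¹ ∈ Un D K n := by
  rw [Un] at hu
  induction hu using Subgroup.closure_induction with
  | mem x hx =>
    obtain ⟨r, a, hr, h2, hx⟩ := hx
    rw [eq_X hR.toAddRel] at hx
    subst hx
    rw [tmap_conj_X hR hT c hr.1]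
    apply Subgroup.subset_closure
    exact ⟨r, _, hr, h2, coe_X _ _ _⟩
  | one => simp
  | mul x y _ _ hx hy =>
    have : (tmap hT hR c : GL D.Idx K) * (x * y) * (tmap hT hR c : GL D.Idx K)⁻¹ =
        ((tmap hT hR c : GL D.Idx K) * x * (tmap hT hR c : GL D.Idx K)⁻¹) *
        ((tmap hT hR c : GL D.Idx K) * y * (tmap hT hR c : GL D.Idx K)⁻¹) := by group
    rw [this]
    exact Subgroup.mul_mem _ hx hy
  | inv x _ hx =>
    have : (tmap hT hR c : GL D.Idx K) * x⁻¹ * (tmap hT hR c : GL D.Idx K)⁻¹ =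
        ((tmap hT hR c : GL D.Idx K) * x * (tmap hT hR c : GL D.Idx K)⁻¹)⁻¹ := by group
    rw [this]
    exact Subgroup.inv_mem _ hx

/-- The centralizer of a regular torus element lies in `N`. -/
theorem centralizer_le_N (c : Fin D.rank → Kˣ) (hreg : ∀ s < D.nroots, chi D (ext c) s ≠ 1)
    {z : GL D.Idx K} (hz : z ∈ D.group K)
    (hc : (tmap hT hR c : GL D.Idx K) * z * (tmap hT hR c : GL D.Idx K)⁻¹ = z) :
    z ∈ D.monomialSubgroup K := by
  obtain ⟨b, hb, n, hn, u, hu, rfl⟩ := normal_form_exists hR hT hz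
  set t : GL D.Idx K := (tmap hT hR c : GL D.Idx K) with ht
  have htH : t ∈ D.diagonalSubgroup K := (tmap hT hR c).2
  set h₁ : GL D.Idx K := t * (n * t⁻¹ * n⁻¹) with hh₁
  have hh₁H : h₁ ∈ D.diagonalSubgroup K :=
    Subgroup.mul_mem _ htH (H_norm_N hR hT hn (Subgroup.inv_mem _ htH))
  have e1 : b * n * u = (t * b * t⁻¹ * h₁) * n * (t * u * t⁻¹) := by
    rw [← hc]
    rw [hh₁]
    group
  have hb' : t * b * t⁻¹ * h₁ ∈ D.borelSubgroup K :=
    Subgroup.mul_mem _ (Subgroup.mul_mem _ (Subgroup.mul_mem _ (H_le_B hR hT htH) hb)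
      (H_le_B hR hT (Subgroup.inv_mem _ htH))) (H_le_B hR hT hh₁H)
  have hu' : t * u * t⁻¹ ∈ Un D K n := tmap_norm_Un hR hT c n hu
  obtain ⟨h2, h3⟩ := (normal_form_unique hR hT hb hb' hn hn hu hu' e1).2 rfl
  have hu1 : u = 1 := fixed_U_eq_one hR hT c hreg (Un_le_U hR hT n hu) h3.symm
  obtain ⟨u₁, hu₁, k₁, hk₁, rfl⟩ := (mem_B_iff hR hT).mp hb
  have e2 : t * k₁ * t⁻¹ = k₁ := by
    rw [H_comm hR hT htH hk₁]
    group
  have e3 : (t * u₁ * t⁻¹) * k₁ * h₁ = u₁ * k₁ := by
    rw [h2]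
    calc (t * u₁ * t⁻¹) * k₁ * h₁ = (t * u₁ * t⁻¹) * (t * k₁ * t⁻¹) * h₁ := by rw [e2]
      _ = t * (u₁ * k₁) * t⁻¹ * h₁ := by group
  have hu₁' : t * u₁ * t⁻¹ ∈ D.posUnipotent K := H_norm_U hR hT htH hu₁
  have e4 : u₁⁻¹ * (t * u₁ * t⁻¹) = k₁ * h₁⁻¹ * k₁⁻¹ := by
    have : (t * u₁ * t⁻¹) = u₁ * k₁ * h₁⁻¹ * k₁⁻¹ := by
      rw [← e3]
      group
    rw [this]
    group
  have h5 : u₁⁻¹ * (t * u₁ * t⁻¹) ∈ D.posUnipotent K ⊓ D.diagonalSubgroup K := by
    refine ⟨Subgroup.mul_mem _ (Subgroup.inv_mem _ hu₁) hu₁', ?_⟩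
    rw [e4]
    exact Subgroup.mul_mem _ (Subgroup.mul_mem _ hk₁ (Subgroup.inv_mem _ hh₁H))
      (Subgroup.inv_mem _ hk₁)
  rw [U_inf_H hR hT, Subgroup.mem_bot] at h5
  have h6 : t * u₁ * t⁻¹ = u₁ := (inv_mul_eq_one.mp h5).symm
  have hu₁1 : u₁ = 1 := fixed_U_eq_one hR hT c hreg hu₁ h6
  rw [hu1, hu₁1, one_mul, mul_one]
  exact Subgroup.mul_mem _ (H_le_N hR hk₁) hn

end Cfsg.Agent.Lib.ChevTori.Act
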