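import Cfsg.Agent.Lib.ChevTori.LinAlg

/-!
The stabilizer of an eigenvector modulo `ℓ` in a finite group of integer matrices containing an
element with cyclotomic minimal polynomial of full degree is trivial.
-/

set_option autoImplicit false
set_option linter.unusedSectionVars false

namespace Cfsg.Agent.Lib.ChevTori.Stab

open Polynomial Matrix Cfsg.Agent.Lib.ChevTori.LinAlg

variable {l : ℕ}

/-- The stabilizer of a reduced vector. -/
def stabS {W : Type*} [Group W] (ρ : W →* Matrix (Fin l) (Fin l) ℤ) (ℓ : ℕ) (b : Fin l → ℤ) :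
    Subgroup W where
  carrier := {u | red ℓ (ρ u *ᵥ b) = red ℓ b}
  mul_mem' := by
    intro a c ha hc
    show red ℓ (ρ (a * c) *ᵥ b) = red ℓ b
    rw [map_mul, ← Matrix.mulVec_mulVec, red_mulVec, hc, ← red_mulVec]
    exact ha
  one_mem' := by
    show red ℓ (ρ 1 *ᵥ b) = red ℓ b
    rw [map_one, Matrix.one_mulVec]
  inv_mem' := by
    intro a ha
    show red ℓ (ρ a⁻¹ *ᵥ b) = red ℓ b
    have ha' : red ℓ (ρ a *ᵥ b) = red ℓ b := ha
    calc red ℓ (ρ a⁻¹ *ᵥ b) = (ρ a⁻¹).map (Int.castRingHom (ZMod ℓ)) *ᵥ red ℓ b := red_mulVec _ _ _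
      _ = (ρ a⁻¹).map (Int.castRingHom (ZMod ℓ)) *ᵥ red ℓ (ρ a *ᵥ b) := by rw [ha']
      _ = red ℓ (ρ a⁻¹ *ᵥ (ρ a *ᵥ b)) := (red_mulVec _ _ _).symm
      _ = red ℓ b := by
        rw [Matrix.mulVec_mulVec, ← map_mul, inv_mul_cancel, map_one, Matrix.one_mulVec]

theorem mem_stabS {W : Type*} [Group W] {ρ : W →* Matrix (Fin l) (Fin l) ℤ} {ℓ : ℕ} {b : Fin l → ℤ}
    {u : W} : u ∈ stabS ρ ℓ b ↔ red ℓ (ρ u *ᵥ b) = red ℓ b := Iff.rfl

/-- The stabilizer of an eigenvector is trivial. -/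
theorem rho_eq_one_of_fix {W : Type*} [Group W] [Finite W] (ρ : W →* Matrix (Fin l) (Fin l) ℤ)
    {ℓ d : ℕ} [hℓ : Fact ℓ.Prime] (hℓW : ¬ ℓ ∣ Nat.card W) (hd : 0 < d) (hdφ : d.totient = l)
    {b : Fin l → ℤ} (hb : red ℓ b ≠ 0) (w₀ : W) {q : ZMod ℓ}
    (hMb : red ℓ (ρ w₀ *ᵥ b) = q • red ℓ b) (hΦ : aeval (ρ w₀) (cyclotomic d ℤ) = 0)
    {u : W} (hu : red ℓ (ρ u *ᵥ b) = red ℓ b) : ρ u = 1 := by
  classical
  set S := stabS ρ ℓ b with hS
  haveI : Fintype S := Fintype.ofFinite _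
  -- normalization
  have hnorm : ∀ a ∈ S, w₀⁻¹ * a * w₀ ∈ S := by
    intro a ha
    rw [hS, mem_stabS] at ha ⊢
    have h1 : (ρ a).map (Int.castRingHom (ZMod ℓ)) *ᵥ (q • red ℓ b) = q • red ℓ b := by
      rw [Matrix.mulVec_smul, ← red_mulVec, ha]
    calc red ℓ (ρ (w₀⁻¹ * a * w₀) *ᵥ b) = red ℓ (ρ w₀⁻¹ *ᵥ (ρ a *ᵥ (ρ w₀ *ᵥ b))) := by
          rw [map_mul, map_mul, Matrix.mulVec_mulVec, Matrix.mulVec_mulVec, mul_assoc]
      _ = (ρ w₀⁻¹).map (Int.castRingHom (ZMod ℓ)) *ᵥ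
            ((ρ a).map (Int.castRingHom (ZMod ℓ)) *ᵥ red ℓ (ρ w₀ *ᵥ b)) := by
          rw [red_mulVec, red_mulVec]
      _ = (ρ w₀⁻¹).map (Int.castRingHom (ZMod ℓ)) *ᵥ red ℓ (ρ w₀ *ᵥ b) := by
          rw [hMb, h1]
      _ = red ℓ (ρ w₀⁻¹ *ᵥ (ρ w₀ *ᵥ b)) := (red_mulVec _ _ _).symm
      _ = red ℓ b := by
          rw [Matrix.mulVec_mulVec, ← map_mul, inv_mul_cancel, map_one, Matrix.one_mulVec]
  -- the average
  set v : Fin l → ℤ := ∑ a : S, ρ (a : W) *ᵥ b with hv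
  have hfix : ∀ a ∈ S, ρ a *ᵥ v = v := by
    intro a ha
    rw [hv, Matrix.mulVec_sum]
    refine Fintype.sum_equiv (Equiv.mulLeft (⟨a, ha⟩ : S)) _ _ ?_
    intro x
    simp [Matrix.mulVec_mulVec, map_mul]
  have hredv : red ℓ v = (Fintype.card S : ZMod ℓ) • red ℓ b := by
    funext i
    have h1 : ∀ a : S, ((ρ (a : W) *ᵥ b) i : ZMod ℓ) = (b i : ZMod ℓ) := fun a =>
      congrFun (mem_stabS.mp a.2) i
    simp only [red, hv, Finset.sum_apply, Int.cast_sum, h1, Finset.sum_const, Finset.card_univ,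
      nsmul_eq_mul, Pi.smul_apply, smul_eq_mul]
  have hcard : (Fintype.card S : ZMod ℓ) ≠ 0 := by
    rw [Ne, ZMod.natCast_eq_zero_iff]
    intro h
    apply hℓW
    rw [← Nat.card_eq_fintype_card] at h
    exact h.trans (Subgroup.card_subgroup_dvd_card S)
  have hv0 : v ≠ 0 := by
    intro h0
    have h1 : red ℓ v = 0 := by
      rw [h0]
      funext i
      simp [red]
    rw [hredv] at h1
    exact hb ((smul_eq_zero.mp h1).resolve_left hcard)
  -- the powers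
  have hpow : ∀ n : ℕ, ∀ a ∈ S, ρ a *ᵥ ((ρ w₀) ^ n *ᵥ v) = (ρ w₀) ^ n *ᵥ v := by
    intro n
    induction n with
    | zero =>
      intro a ha
      simpa using hfix a ha
    | succ n ih =>
      intro a ha
      have h1 := ih _ (hnorm a ha)
      have h2 : ρ a * ρ w₀ = ρ w₀ * ρ (w₀⁻¹ * a * w₀) := by
        rw [← map_mul, ← map_mul]
        congr 1
        group
      rw [pow_succ', ← Matrix.mulVec_mulVec, Matrix.mulVec_mulVec (ρ w₀ ^ n *ᵥ v), h2,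
        ← Matrix.mulVec_mulVec, h1]
  set A := toQ (ρ w₀) with hA
  have hpoly : ∀ f : ℚ[X], toQ (ρ u) *ᵥ ((aeval A f) *ᵥ castV v) = (aeval A f) *ᵥ castV v := by
    intro f
    induction f using Polynomial.induction_on' with
    | add p r hp hr =>
      rw [map_add, Matrix.add_mulVec, Matrix.mulVec_add, hp, hr]
    | monomial n a =>
      have h1 : A ^ n *ᵥ castV v = castV ((ρ w₀) ^ n *ᵥ v) := by
        rw [castV_mulVec, hA, ← Matrix.map_pow]
      rw [aeval_monomial, ← Matrix.mulVec_mulVec]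
      have h2 : (algebraMap ℚ (Matrix (Fin l) (Fin l) ℚ)) a = a • 1 := by
        rw [Algebra.algebraMap_eq_smul_one]
      rw [h2, Matrix.smul_mulVec, Matrix.one_mulVec, Matrix.mulVec_smul, h1, ← castV_mulVec, hpow n u hu]
  have h0 : (aeval A (cyclotomic d ℚ)) *ᵥ castV v = 0 := by
    have hmap : (cyclotomic d ℤ).map (algebraMap ℤ ℚ) = cyclotomic d ℚ := map_cyclotomic d _
    rw [← hmap, hA, toQ_aeval, hΦ]
    funext i
    simp [Matrix.mulVec, dotProduct]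
  have hall := exists_poly (cyclotomic.irreducible_rat hd)
    (by rw [natDegree_cyclotomic, hdφ]) (castV_ne hv0) h0
  have hz : toQ (ρ u) - 1 = 0 := by
    apply eq_zero_of_mulVec
    intro y
    obtain ⟨f, rfl⟩ := hall y
    rw [Matrix.sub_mulVec, Matrix.one_mulVec, hpoly, sub_self]
  apply toQ_inj
  rw [sub_eq_zero.mp hz]
  ext i j
  simp [Matrix.one_apply]

end Cfsg.Agent.Lib.ChevTori.Stab
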