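import Cfsg.Agent.Lib.ChevTori.Act
import Cfsg.Agent.Lib.ChevTori.Stab
import Cfsg.Agent.Lib.ChevFix.Main

/-!
Torus elements whose coordinates are powers of a fixed root of unity, an eigenvector of a Weyl group
element modulo `ℓ`: their stabilizer in the Weyl group is trivial, they are regular and their
centralizer is the torus.
-/

set_option autoImplicit false
set_option linter.unusedSectionVars false

namespace Cfsg.Agent.Lib.ChevTori.Core

open Polynomial Matrix
open Cfsg Cfsg.Lie Cfsg.Agent.Lib.ChevBN.Elem Cfsg.Agent.Lib.ChevBN.Entries Cfsg.Agent.Lib.ChevBN.Table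
open Cfsg.Agent.Lib.ChevBN.Collect Cfsg.Agent.Lib.ChevBN.Rel Cfsg.Agent.Lib.ChevBN.Torus
open Cfsg.Agent.Lib.ChevBN.Monomial Cfsg.Agent.Lib.ChevBN.Core Cfsg.Agent.Lib.ChevBN.Pair
open Cfsg.Agent.Lib.ChevBN.Stmts Cfsg.Agent.Lib.ChevBN.BruhatForm Cfsg.Agent.Lib.ChevBN.Opp
open Cfsg.Agent.Lib.ChevTri.Level Cfsg.Agent.Lib.ChevTri.Datum
open Cfsg.Agent.Lib.BNPair.Basic Cfsg.Agent.Lib.BNPair.Parabolic
open Cfsg.Agent.Lib.ChevOrder.BNCount Cfsg.Agent.Lib.ChevOrder.Chev
open Cfsg.Agent.Lib.ChevOrder.TorusCard Cfsg.Agent.Lib.ChevBN.Levi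
open Cfsg.Agent.Lib.BNPair.CoxeterExchange Cfsg.Agent.Lib.StChar.Top
open Cfsg.Agent.Lib.ChevTori.Act Cfsg.Agent.Lib.ChevTori.LinAlg Cfsg.Agent.Lib.ChevTori.Stab
open Cfsg.Agent.Lib.ChevFix

section Powers

variable {l : ℕ} {μ : Type*} [CommGroup μ]

/-- The action on powers of a fixed element. -/
theorem actM_zpow (A : Matrix (Fin l) (Fin l) ℤ) (ξ : μ) (b : Fin l → ℤ) :
    actM A (fun j => ξ ^ b j) = fun i => ξ ^ ((A *ᵥ b) i) := by
  funext i
  rw [actM_apply, Matrix.mulVec, dotProduct, Cfsg.Agent.Lib.ChevOrder.TorusCard.zpow_sum_aux]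
  apply Finset.prod_congr rfl
  intro j _
  rw [← _root_.zpow_mul, mul_comm]

theorem zpow_eq_iff {ξ : μ} {ℓ : ℕ} (hξ : orderOf ξ = ℓ) (a a' : ℤ) :
    ξ ^ a = ξ ^ a' ↔ (a : ZMod ℓ) = a' := by
  rw [zpow_eq_zpow_iff_modEq, hξ, ZMod.intCast_eq_intCast_iff]

theorem fun_zpow_eq_iff {ξ : μ} {ℓ : ℕ} (hξ : orderOf ξ = ℓ) (b b' : Fin l → ℤ) :
    (fun j => ξ ^ b j) = (fun j => ξ ^ b' j) ↔ red ℓ b = red ℓ b' := by
  constructor
  · intro h
    funext i
    exact (zpow_eq_iff hξ _ _).1 (congrFun h i)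
  · intro h
    funext i
    exact (zpow_eq_iff hξ _ _).2 (congrFun h i)

theorem red_smul_eq (ℓ q : ℕ) (b : Fin l → ℤ) :
    red ℓ (fun j => (q : ℤ) * b j) = ((q : ℤ) : ZMod ℓ) • red ℓ b := by
  funext i
  simp [red]

theorem pow_fun_zpow (ξ : μ) (b : Fin l → ℤ) (q : ℕ) :
    (fun j => ξ ^ b j) ^ q = fun j => ξ ^ ((q : ℤ) * b j) := by
  funext j
  rw [Pi.pow_apply, ← zpow_natCast, ← _root_.zpow_mul, mul_comm]

end Powers

variable {D : ChevalleyDatum} {K : Type*} [Field K] {η : ℕ → ℕ → ℤ}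
variable (hR : Sys D K η) (hT : Tbl D)

/-- The parametrization of the torus is injective when the Cartan matrix is unimodular. -/
theorem tmap_injective (hU : Unimod D) : Function.Injective (tmap hT hR) := by
  obtain ⟨M, hM⟩ := hU
  intro c c' h
  have e1 : ∀ s : Fin D.nroots, chi D (ext c) s = chi D (ext c') s := by
    intro s
    have h1 : ((tmap hT hR c : GL D.Idx K) : Matrix D.Idx D.Idx K) =
        dgMat D (fun s => chi D (ext c) s) := coe_hP hR (fun j _ => ext_ne c j)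
    have h2 : ((tmap hT hR c' : GL D.Idx K) : Matrix D.Idx D.Idx K) =
        dgMat D (fun s => chi D (ext c') s) := coe_hP hR (fun j _ => ext_ne c' j)
    have h3 := congrFun (congrFun (h1.symm.trans ((congrArg (fun g : D.diagonalSubgroup K =>
      ((g : GL D.Idx K) : Matrix D.Idx D.Idx K)) h).trans h2)) (Sum.inr s)) (Sum.inr s)
    simpa [dgMat] using h3
  funext a
  apply Units.ext
  have h4 := param_eq hM (fun j _ => ext_ne c j) a.2
  have h5 := param_eq hM (fun j _ => ext_ne c' j) a.2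
  have h6 : ∀ k ∈ Finset.range D.rank, chi D (ext c) (D.simple k) ^ M a k =
      chi D (ext c') (D.simple k) ^ M a k := by
    intro k hk
    rw [e1 ⟨D.simple k, hT.simple_lt (Finset.mem_range.mp hk)⟩]
  rw [Finset.prod_congr rfl h6, ← h5] at h4
  have h7 : ∀ c₀ : Fin D.rank → Kˣ, Cfsg.Agent.Lib.ChevOrder.TorusCard.ext c₀ a = (c₀ a : K) := by
    intro c₀
    simp [Cfsg.Agent.Lib.ChevOrder.TorusCard.ext]
  rw [h7, h7] at h4
  exact h4

/-- Reflections fix the points on the corresponding wall. -/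
theorem actM_fW (i : Fin D.rank) (c : Fin D.rank → Kˣ) (h : chi D (ext c) (alphaR hT i) = 1) :
    actM (matW hR hT (fW hR hT i)) c = c := by
  have h0 : (∏ k, c k ^ D.cartan k (alphaR hT i) : Kˣ) = 1 := by
    apply Units.ext
    rw [← chi_ext, h]
    rfl
  have e : ∀ j k : Fin D.rank, matW hR hT (fW hR hT i) j k =
      (if k = j then 1 else 0) - (if j = i then D.cartan k (alphaR hT i) else 0) := by
    intro j k
    rw [matW_apply, σW_fW, Tbl.wPerm_val]
    show cr D (D.reflectRoot i (D.simple k)) j = _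
    rw [hT.coroot_w i i.2 _ (hT.simple_lt k.2) j j.2, hT.coroot_simple k k.2 j j.2]
    have h2 : Ad D (cr D (D.simple k)) (D.simple i) = D.cartan k (alphaR hT i) := by
      rw [Ad_eq_sum, Finset.sum_range]
      rw [Finset.sum_eq_single k]
      · have : cr D (D.simple k) k = if k = k then 1 else 0 := cr_alpha hT k k
        rw [this, if_pos rfl, one_mul]
        rfl
      · intro b _ hb
        have : cr D (D.simple k) b = if k = b then 1 else 0 := cr_alpha hT b k
        rw [this, if_neg (Ne.symm hb), zero_mul]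
      · simp
    simp only [Fin.ext_iff]
    split_ifs <;> simp_all [Fin.ext_iff]
  funext j
  rw [actM_apply]
  simp_rw [e, sub_eq_add_neg, _root_.zpow_add]
  rw [Finset.prod_mul_distrib]
  have h3 : (∏ k, c k ^ (if k = j then (1 : ℤ) else 0)) = c j := by
    rw [Finset.prod_eq_single j]
    · simp
    · intro b _ hb
      rw [if_neg hb, zpow_zero]
    · simp
  rw [h3]
  by_cases hj : j = i
  · simp only [if_pos hj, _root_.zpow_neg]
    rw [Finset.prod_inv_distrib, h0, inv_one, mul_one]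
  · simp [if_neg hj]

/-- Every root is in the Weyl orbit of a fundamental root. -/
theorem exists_alpha (r : Fin D.nroots) :
    ∃ (w : WW (pair hR hT)) (i : Fin D.rank), σW hR hT w (alphaR hT i) = r := by
  have key : ∀ {J : Set ℕ} {r : ℕ}, Reach D J r → ∀ hr : r < D.nroots,
      ∃ (w : WW (pair hR hT)) (i : Fin D.rank), σW hR hT w (alphaR hT i) = ⟨r, hr⟩ := by
    intro J r hr
    induction hr with
    | base _ hl =>
      intro hr
      exact ⟨1, ⟨_, hl⟩, by rw [map_one]; rfl⟩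
    | @step q r' _ hl hr' ih =>
      intro hr
      obtain ⟨w, i, h⟩ := ih (hr'.lt hT)
      refine ⟨fW hR hT ⟨q, hl⟩ * w, i, ?_⟩
      rw [map_mul, σW_fW, Equiv.Perm.mul_apply, h]
      rfl
  exact key (reach_univ hT r.isLt) r.isLt

/-- A torus element with trivial stabilizer is regular. -/
theorem regular_of_fix (c : Fin D.rank → Kˣ)
    (hfix : ∀ u : WW (pair hR hT), actM (matW hR hT u) c = c → u = 1) :
    ∀ s < D.nroots, chi D (ext c) s ≠ 1 := by
  intro s hs h1
  obtain ⟨w, i, hw⟩ := exists_alpha hR hT ⟨s, hs⟩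
  set c' := actM (matW hR hT w⁻¹) c with hc'
  have h2 : chi D (ext c') (alphaR hT i) = 1 := by
    have h3 := chi_actM hR hT w⁻¹ c ⟨s, hs⟩
    have h4 : σW hR hT w⁻¹ ⟨s, hs⟩ = alphaR hT i := by
      rw [← hw, map_inv]
      simp
    rw [h4] at h3
    rw [hc', h3]
    exact h1
  have h5 := actM_fW hR hT i c' h2
  have h6 : actM (matW hR hT (w * fW hR hT i * w⁻¹)) c = c := by
    rw [matW_mul, matW_mul, actM_mul, actM_mul, ← hc', h5, hc', ← actM_mul, ← matW_mul, mul_inv_cancel,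
      matW_one, actM_one]
  have h7 := hfix _ h6
  have h8 : fW hR hT i = 1 := by
    have h9 : w * fW hR hT i = w := by
      exact mul_inv_eq_one.mp h7
    exact mul_left_cancel (h9.trans (mul_one w).symm)
  apply (setupW hR hT).ne i 1
  rw [h8, one_mul]

/-- The centralizer of a torus element with trivial stabilizer is the torus. -/
theorem mem_H_of_comm (hU : Unimod D) (c : Fin D.rank → Kˣ)
    (hfix : ∀ u : WW (pair hR hT), actM (matW hR hT u) c = c → u = 1) {z : GL D.Idx K}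
    (hz : z ∈ D.group K)
    (hc : (tmap hT hR c : GL D.Idx K) * z * (tmap hT hR c : GL D.Idx K)⁻¹ = z) :
    z ∈ D.diagonalSubgroup K := by
  have hzN := centralizer_le_N hR hT c (regular_of_fix hR hT c hfix) hz hc
  let n : ↥(pair hR hT).N := ⟨⟨z, hz⟩, (mem_PN hR hT).2 hzN⟩
  have h1 := conj_tmap hR hT n c
  have h2 : z * (tmap hT hR c : GL D.Idx K) * z⁻¹ = (tmap hT hR c : GL D.Idx K) := by
    rw [mul_inv_eq_iff_eq_mul]
    exact (mul_inv_eq_iff_eq_mul.mp hc).symm
  have h3 : actM (matW hR hT (QuotientGroup.mk n)) c = c := by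
    apply tmap_injective hR hT hU
    apply Subtype.ext
    exact h1.symm.trans h2
  exact mem_H_of_mk hR hT n (hfix _ h3)

section FiniteField

variable [Finite K]

/-- The Weyl group is finite. -/
theorem finite_WW : Finite (WW (pair hR hT)) := by
  haveI : Finite (GL D.Idx K) := inferInstance
  haveI : Finite ↥(D.group K) := inferInstance
  infer_instance

/-- The key facts on eigenvectors modulo `ℓ`. -/
theorem kcore {ℓ d q : ℕ} [hℓ : Fact ℓ.Prime]
    (hℓW : ¬ ℓ ∣ Nat.card (WW (pair hR hT))) (hd : 0 < d) (hφ : d.totient = D.rank)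
    (hprim : IsPrimitiveRoot ((q : ℤ) : ZMod ℓ) d) {ξ : Kˣ} (hξ : orderOf ξ = ℓ)
    {b : Fin D.rank → ℤ} (hb : red ℓ b ≠ 0) (w₀ : WW (pair hR hT))
    (h : actM (matW hR hT w₀) (fun j => ξ ^ b j) = (fun j => ξ ^ b j) ^ q) :
    (matW hR hT w₀).charpoly = cyclotomic d ℤ ∧
      ∀ u : WW (pair hR hT), actM (matW hR hT u) (fun j => ξ ^ b j) = (fun j => ξ ^ b j) → u = 1 := by
  haveI := finite_WW hR hT
  have hMb : red ℓ (matW hR hT w₀ *ᵥ b) = ((q : ℤ) : ZMod ℓ) • red ℓ b := by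
    rw [actM_zpow, pow_fun_zpow, fun_zpow_eq_iff hξ] at h
    rw [h, red_smul_eq]
  have hpow : matW hR hT w₀ ^ orderOf w₀ = 1 := by
    have h1 := map_pow (matHom hR hT) w₀ (orderOf w₀)
    rw [pow_orderOf_eq_one, map_one, matHom_apply] at h1
    exact h1.symm
  have hnd : ¬ ℓ ∣ orderOf w₀ := fun h1 => hℓW (h1.trans (orderOf_dvd_natCard w₀))
  have hΦ := cyclotomic_eq_zero (orderOf_pos w₀) hpow hnd hφ hprim hb hMb
  refine ⟨charpoly_eq hd hφ hΦ, ?_⟩
  intro u hu
  rw [actM_zpow, fun_zpow_eq_iff hξ] at hu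
  exact eq_one_of_matW hR hT u
    (rho_eq_one_of_fix (matHom hR hT) hℓW hd hφ hb w₀ hMb hΦ hu)

end FiniteField

end Cfsg.Agent.Lib.ChevTori.Core
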