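import Cfsg.Agent.Lib.ChevTori.Twist
import Cfsg.Agent.Lib.ChevBN.ConjH

/-!
The centralizer of an element of prime order `ℓ` of a Chevalley group over a finite field when the
parametrization of the torus over the big field has a kernel of exponent prime to `ℓ`: it is a quotient
of the kernel of `M - q` on `(Kˣ)^l` for a Weyl group element with matrix `M`.
-/

set_option autoImplicit false
set_option linter.unusedSectionVars false

namespace Cfsg.Agent.Lib.ChevTori.Flow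

open Matrix
open Cfsg Cfsg.Lie Cfsg.Agent.Lib.ChevBN.Elem Cfsg.Agent.Lib.ChevBN.Entries Cfsg.Agent.Lib.ChevBN.Table
open Cfsg.Agent.Lib.ChevBN.Collect Cfsg.Agent.Lib.ChevBN.Rel Cfsg.Agent.Lib.ChevBN.Torus
open Cfsg.Agent.Lib.ChevBN.Monomial Cfsg.Agent.Lib.ChevBN.Core Cfsg.Agent.Lib.ChevBN.Pair
open Cfsg.Agent.Lib.ChevBN.Stmts Cfsg.Agent.Lib.ChevBN.BruhatForm Cfsg.Agent.Lib.ChevBN.Opp
open Cfsg.Agent.Lib.ChevTri.Level Cfsg.Agent.Lib.ChevTri.Datum
open Cfsg.Agent.Lib.BNPair.Basic Cfsg.Agent.Lib.BNPair.Parabolic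
open Cfsg.Agent.Lib.ChevOrder.BNCount Cfsg.Agent.Lib.ChevOrder.Chev
open Cfsg.Agent.Lib.ChevOrder.TorusCard Cfsg.Agent.Lib.ChevBN.Levi
open Cfsg.Agent.Lib.BNPair.CoxeterExchange Cfsg.Agent.Lib.StChar.Top
open Cfsg.Agent.Lib.ChevTori.Act Cfsg.Agent.Lib.ChevTori.LinAlg
open Cfsg.Agent.Lib.ChevFix Cfsg.Agent.Lib.ChevTori.Core Cfsg.Agent.Lib.ChevTori.Main
open Cfsg.Agent.Lib.Steinberg.Gen Cfsg.Agent.Lib.ChevTori.StLift Cfsg.Agent.Lib.ChevTori.Twist

variable {D : ChevalleyDatum} {F K : Type*} [Field F] [Field K] {η : ℕ → ℕ → ℤ}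
variable (dF : Dat D F η) (dK : Dat D K η) (ι : F →+* K) (σ : K →+* K) {q : ℕ}

include dF dK in
/-- The centralizer of an element of order `ℓ`. -/
theorem exists_centralizer' [Finite F] [Finite K]
    (hσ : ∀ a, σ a = a ^ q) (hfix : ∀ a, σ (ι a) = ι a) (hrange : ∀ t, σ t = t → ∃ s, ι s = t)
    (hinj : Function.Injective (hp dK.stein dK.stein_hasR3))
    {ℓ d₀ : ℕ} [hℓ : Fact ℓ.Prime] (hd₀ : Nat.Coprime d₀ ℓ)
    (hexp : ∀ c : Fin D.rank → Kˣ, tmap dK.hT dK.hR c = 1 → c ^ d₀ = 1)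
    (hℓK : ℓ ∣ Nat.card Kˣ)
    (hind : ¬ ℓ ∣ ((D.diagonalSubgroup K).subgroupOf (D.group K)).index)
    (P : Matrix (Fin D.rank) (Fin D.rank) ℤ → Prop)
    (hW : ∀ (w₀ : WW (pair dK.hR dK.hT)) (b : Fin D.rank → ℤ), red ℓ b ≠ 0 →
      red ℓ (matW dK.hR dK.hT w₀ *ᵥ b) = ((q : ℤ) : ZMod ℓ) • red ℓ b →
      P (matW dK.hR dK.hT w₀) ∧
        ∀ u : WW (pair dK.hR dK.hT), red ℓ (matW dK.hR dK.hT u *ᵥ b) = red ℓ b → u = 1)
    (x : ↥(D.group F)) (hx : orderOf x = ℓ) :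
    ∃ M : Matrix (Fin D.rank) (Fin D.rank) ℤ, P M ∧
      ∃ f : ↥(actM (μ := Kˣ) (M - (q : ℤ) • 1)).ker →*
          ↥(Subgroup.centralizer ({x} : Set ↥(D.group F))),
        Function.Surjective f ∧
        ∀ a : ↥(actM (μ := Kˣ) (M - (q : ℤ) • 1)).ker,
          f a = 1 ↔ tmap dK.hT dK.hR (a : Fin D.rank → Kˣ) = 1 := by
  classical
  set hR := dK.hR with hhR
  set hT := dK.hT with hhT
  haveI : Finite (GL D.Idx K) := inferInstance
  set x₀ : GL D.Idx K := mp ι (x : GL D.Idx F) with hx₀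
  have hx₀G : x₀ ∈ D.group K := mp_group ι x.2
  have hxpow : (⟨x₀, hx₀G⟩ : ↥(D.group K)) ^ ℓ = 1 := by
    apply Subtype.ext
    show x₀ ^ ℓ = 1
    rw [hx₀, ← map_pow, ← Subgroup.coe_pow, ← hx, pow_orderOf_eq_one]
    simp
  have hx₀pow : x₀ ^ ℓ = 1 := congrArg Subtype.val hxpow
  obtain ⟨⟨g, hg⟩, hgH⟩ := exists_conj_mem ((D.diagonalSubgroup K).subgroupOf (D.group K)) hind hxpow
  have hgH' : g⁻¹ * x₀ * g ∈ D.diagonalSubgroup K := Subgroup.mem_subgroupOf.mp hgH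
  obtain ⟨c₀, hc₀⟩ := tmap_surj' hR hT hgH'
  set t : GL D.Idx K := g⁻¹ * x₀ * g with ht
  have htH : t ∈ D.diagonalSubgroup K := hgH'
  have htℓ : t ^ ℓ = 1 := by
    have e : t = (MulAut.conj g⁻¹).toMonoidHom x₀ := by
      simp [MulAut.conj_apply, ht]
    rw [e, ← map_pow, hx₀pow, map_one]
  -- uniqueness on the `ℓ`-torsion
  have huniq : ∀ a a' : Fin D.rank → Kˣ, a ^ ℓ = 1 → a' ^ ℓ = 1 →
      tmap hT hR a = tmap hT hR a' → a = a' := by
    intro a a' ha ha' he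
    have h1 : tmap hT hR (a / a') = 1 := by
      rw [map_div, he, div_self']
    have h2 := hexp _ h1
    have h3 : (a / a') ^ ℓ = 1 := by
      rw [div_pow, ha, ha', div_one]
    have h4 := pow_gcd_eq_one.mpr ⟨h2, h3⟩
    rw [hd₀, pow_one] at h4
    exact div_eq_one.mp h4
  -- the good parameter
  obtain ⟨k, -, hk⟩ := Nat.exists_mul_mod_eq_one_of_coprime hd₀ hℓ.out.one_lt
  set c := c₀ ^ (d₀ * k) with hc
  have hcℓ : c ^ ℓ = 1 := by
    have h1 : tmap hT hR (c₀ ^ ℓ) = 1 := by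
      apply Subtype.ext
      rw [map_pow]
      show (tmap hT hR c₀ : GL D.Idx K) ^ ℓ = 1
      rw [hc₀, htℓ]
    have h2 := hexp _ h1
    rw [hc, ← pow_mul, show d₀ * k * ℓ = ℓ * d₀ * k by ring, pow_mul, pow_mul, h2, one_pow]
  have htc : (tmap hT hR c : GL D.Idx K) = t := by
    rw [hc, map_pow]
    show (tmap hT hR c₀ : GL D.Idx K) ^ (d₀ * k) = t
    rw [hc₀]
    have h1 : d₀ * k = ℓ * ((d₀ * k) / ℓ) + 1 := by
      have := Nat.div_add_mod (d₀ * k) ℓ
      rw [hk] at this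
      exact this.symm
    rw [h1, pow_succ, pow_mul, htℓ, one_pow, one_mul]
  have hσt : mp σ t = t ^ q := by
    rw [← htc]
    exact mp_tmap hR hT σ hσ c
  have hσx : mp σ x₀ = x₀ := mp_comp_fix ι σ hfix _
  set y : GL D.Idx K := g⁻¹ * mp σ g with hy
  have hyG : y ∈ D.group K := Subgroup.mul_mem _ (Subgroup.inv_mem _ hg) (mp_group σ hg)
  have ey : y⁻¹ * t * y = t ^ q := by
    rw [← hσt, ht, map_mul, map_mul, map_inv, hσx, hy]
    group
  obtain ⟨n₀, hn₀, en⟩ := Cfsg.Agent.Lib.ChevBN.ConjH.conj_in_N hR hT htH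
    (Subgroup.pow_mem _ htH q) (Subgroup.inv_mem _ hyG) (by rw [inv_inv]; exact ey)
  let n : ↥(pair hR hT).N := ⟨⟨n₀, N_le_G hR hT hn₀⟩, (mem_PN hR hT).2 hn₀⟩
  set w₀ : WW (pair hR hT) := QuotientGroup.mk n with hw₀
  set M := matW hR hT w₀ with hM
  have hconj : ∀ c' : Fin D.rank → Kˣ, n₀ * (tmap hT hR c' : GL D.Idx K) * n₀⁻¹ =
      (tmap hT hR (actM M c') : GL D.Idx K) := fun c' => conj_tmap hR hT n c'
  have hcM : actM M c = c ^ q := by
    apply huniq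
    · rw [← map_pow, hcℓ, map_one]
    · rw [← pow_mul, mul_comm, pow_mul, hcℓ, one_pow]
    · apply Subtype.ext
      rw [← hconj, htc, en, map_pow]
      show t ^ q = (tmap hT hR c : GL D.Idx K) ^ q
      rw [htc]
  have hc1 : c ≠ 1 := by
    intro h1
    have h2 : t = 1 := by
      rw [← htc, h1, map_one]
      rfl
    have h3 : x₀ = 1 := by
      have e : x₀ = g * t * g⁻¹ := by
        rw [ht]
        group
      rw [e, h2]
      group
    have h4 : (x : GL D.Idx F) = 1 := by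
      apply mp_injective ι
      rw [← hx₀, h3, map_one]
    have h5 : x = 1 := Subtype.ext h4
    rw [h5, orderOf_one] at hx
    exact hℓ.out.one_lt.ne hx
  -- discrete logarithm
  obtain ⟨ξ, hξ⟩ := exists_prime_orderOf_dvd_card' ℓ hℓK
  have hlog : ∀ a : Kˣ, a ^ ℓ = 1 → ∃ k : ℤ, ξ ^ k = a := by
    intro a ha
    have hprimξ : IsPrimitiveRoot ξ ℓ := by
      rw [← hξ]
      exact IsPrimitiveRoot.orderOf ξ
    haveI : NeZero ℓ := ⟨hℓ.out.ne_zero⟩
    have h1 : a ∈ Subgroup.zpowers ξ := by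
      rw [hprimξ.zpowers_eq, mem_rootsOfUnity]
      exact ha
    exact Subgroup.mem_zpowers_iff.mp h1
  choose b hb using fun j => hlog (c j) (by
    have := congrFun hcℓ j
    simpa using this)
  have hcb : c = fun j => ξ ^ b j := by
    funext j
    exact (hb j).symm
  have hb0 : red ℓ b ≠ 0 := by
    intro h0
    apply hc1
    rw [hcb]
    have h1 : (fun j => ξ ^ b j) = (fun j => ξ ^ (0 : Fin D.rank → ℤ) j) := by
      rw [fun_zpow_eq_iff hξ, h0]
      funext i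
      simp [red]
    rw [h1]
    funext j
    simp
  have hMb : red ℓ (M *ᵥ b) = ((q : ℤ) : ZMod ℓ) • red ℓ b := by
    have h := hcM
    rw [hcb, actM_zpow, pow_fun_zpow, fun_zpow_eq_iff hξ] at h
    rw [h, red_smul_eq]
  obtain ⟨hPM, hstab⟩ := hW w₀ b hb0 hMb
  have hfixW : ∀ u : WW (pair hR hT), actM (matW hR hT u) c = c → u = 1 := by
    intro u hu
    apply hstab
    rw [hcb, actM_zpow, fun_zpow_eq_iff hξ] at hu
    exact hu
  refine ⟨M, hPM, ?_⟩
  -- the centralizer of `t`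
  have hcent : ∀ {z : GL D.Idx K}, z ∈ D.group K → t * z * t⁻¹ = z → z ∈ D.diagonalSubgroup K := by
    intro z hz h1
    rw [← htc] at h1
    have hzN := centralizer_le_N hR hT c (regular_of_fix hR hT c hfixW) hz h1
    let n₁ : ↥(pair hR hT).N := ⟨⟨z, hz⟩, (mem_PN hR hT).2 hzN⟩
    have h2 := conj_tmap hR hT n₁ c
    have h3 : z * (tmap hT hR c : GL D.Idx K) * z⁻¹ = (tmap hT hR c : GL D.Idx K) := by
      rw [mul_inv_eq_iff_eq_mul]
      exact (mul_inv_eq_iff_eq_mul.mp h1).symm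
    have h4 : actM (matW hR hT (QuotientGroup.mk n₁)) c = c := by
      apply huniq _ _ (by rw [← map_pow, hcℓ, map_one]) hcℓ
      apply Subtype.ext
      exact h2.symm.trans h3
    exact mem_H_of_mk hR hT n₁ (hfixW _ h4)
  have hyn : y * n₀ ∈ D.diagonalSubgroup K := by
    apply hcent (Subgroup.mul_mem _ hyG (N_le_G hR hT hn₀))
    have h1 : y⁻¹ * t * y = n₀ * t * n₀⁻¹ := by rw [ey, en]
    have e1 : t * (y * n₀) = y * (y⁻¹ * t * y) * n₀ := by group
    rw [e1, h1]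
    group
  obtain ⟨hT1, hT2⟩ := twist dF dK ι σ hσ hfix hrange hinj hg hy hn₀ hyn n rfl
  -- the two maps
  let f₁ : ↥(Subgroup.centralizer ({x} : Set ↥(D.group F))) →* GL D.Idx K :=
    (mp ι).comp ((D.group F).subtype.comp (Subgroup.centralizer ({x} : Set ↥(D.group F))).subtype)
  have hf₁ : Function.Injective f₁ :=
    (mp_injective ι).comp (Subtype.val_injective.comp Subtype.val_injective)
  set A := (actM (μ := Kˣ) (M - (q : ℤ) • 1)).ker with hA
  let f' : ↥A →* GL D.Idx K :=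
    (MulAut.conj g).toMonoidHom.comp ((D.diagonalSubgroup K).subtype.comp
      ((tmap hT hR).comp A.subtype))
  have hf'a : ∀ a : ↥A, f' a = g * (tmap hT hR (a : Fin D.rank → Kˣ) : GL D.Idx K) * g⁻¹ :=
    fun a => rfl
  have hxt : x₀ = g * t * g⁻¹ := by
    rw [ht]
    group
  -- the image
  have h_in : ∀ a : ↥A, f' a ∈ f₁.range := by
    intro a
    have hqa : actM M (a : Fin D.rank → Kˣ) = (a : Fin D.rank → Kˣ) ^ q := (mem_ker_sub _ _ _).1 a.2
    have hmem := hT1 _ hqa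
    obtain ⟨z₁, hz₁, hz₂⟩ := hmem
    refine ⟨⟨⟨z₁, hz₁⟩, ?_⟩, hz₂⟩
    rw [Subgroup.mem_centralizer_iff]
    intro h hh
    rw [Set.mem_singleton_iff] at hh
    rw [hh]
    apply Subtype.ext
    apply mp_injective ι
    show mp ι ((x : GL D.Idx F) * z₁) = mp ι (z₁ * (x : GL D.Idx F))
    rw [map_mul, map_mul, hz₂, ← hx₀, hxt]
    have e6 : t * (tmap hT hR (a : Fin D.rank → Kˣ) : GL D.Idx K) =
        (tmap hT hR (a : Fin D.rank → Kˣ) : GL D.Idx K) * t :=
      H_comm hR hT htH (tmap hT hR (a : Fin D.rank → Kˣ)).2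
    calc g * t * g⁻¹ * (g * (tmap hT hR (a : Fin D.rank → Kˣ) : GL D.Idx K) * g⁻¹)
        = g * (t * (tmap hT hR (a : Fin D.rank → Kˣ) : GL D.Idx K)) * g⁻¹ := by group
      _ = g * ((tmap hT hR (a : Fin D.rank → Kˣ) : GL D.Idx K) * t) * g⁻¹ := by rw [e6]
      _ = _ := by group
  have h_out : ∀ z : ↥(Subgroup.centralizer ({x} : Set ↥(D.group F))), ∃ a : ↥A, f' a = f₁ z := by
    intro z
    have hz1 : (z : ↥(D.group F)) * x = x * (z : ↥(D.group F)) := by
      have := Subgroup.mem_centralizer_iff.mp z.2 x (by simp)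
      exact this.symm
    set z₀ : GL D.Idx K := f₁ z with hz₀
    have hz₀G : z₀ ∈ D.group K := mp_group ι (z : ↥(D.group F)).2
    have hz₀x : z₀ * x₀ = x₀ * z₀ := by
      have := congrArg (fun u : ↥(D.group F) => mp ι (u : GL D.Idx F)) hz1
      simp only [Subgroup.coe_mul, map_mul] at this
      exact this
    have hmem : g⁻¹ * z₀ * g ∈ D.diagonalSubgroup K := by
      apply hcent (Subgroup.mul_mem _ (Subgroup.mul_mem _ (Subgroup.inv_mem _ hg) hz₀G) hg)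
      rw [ht]
      have e2 : g⁻¹ * x₀ * g * (g⁻¹ * z₀ * g) = g⁻¹ * (x₀ * z₀) * g := by group
      rw [e2, ← hz₀x]
      group
    have hz₀0 : z₀ ∈ G0 (D := D) ι := ⟨(z : ↥(D.group F)), (z : ↥(D.group F)).2, rfl⟩
    obtain ⟨a, ha, hat⟩ := hT2 z₀ hz₀0 _ hmem (by group)
    refine ⟨⟨a, (mem_ker_sub _ _ _).2 ha⟩, ?_⟩
    rw [hf'a]
    show g * (tmap hT hR a : GL D.Idx K) * g⁻¹ = z₀
    rw [hat]
    group
  let e₁ := MonoidHom.ofInjective hf₁
  let f₂ : ↥A →* f₁.range := f'.codRestrict _ h_in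
  refine ⟨e₁.symm.toMonoidHom.comp f₂, ?_, ?_⟩
  · intro z
    obtain ⟨a, ha⟩ := h_out z
    refine ⟨a, ?_⟩
    apply e₁.injective
    rw [MonoidHom.comp_apply]
    show e₁ (e₁.symm (f₂ a)) = _
    rw [MulEquiv.apply_symm_apply]
    apply Subtype.ext
    exact ha
  · intro a
    constructor
    · intro h
      have h1 : f₂ a = 1 := by
        have h2 : e₁.symm (f₂ a) = 1 := h
        rw [← e₁.apply_symm_apply (f₂ a), h2, map_one]
      have h2 : f' a = 1 := congrArg Subtype.val h1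
      rw [hf'a] at h2
      apply Subtype.ext
      have e3 : (tmap hT hR (a : Fin D.rank → Kˣ) : GL D.Idx K) =
          g⁻¹ * (g * (tmap hT hR (a : Fin D.rank → Kˣ) : GL D.Idx K) * g⁻¹) * g := by group
      rw [e3, h2]
      simp
    · intro h
      have h1 : f₂ a = 1 := by
        apply Subtype.ext
        show f' a = 1
        rw [hf'a, h]
        simp
      show e₁.symm (f₂ a) = 1
      rw [h1, map_one]

end Cfsg.Agent.Lib.ChevTori.Flow
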