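import Cfsg.Agent.Lib.ChevTori.Stab

/-!
Even positive definite lattices with an isometry `M` of finite order having the eigenvalue of
multiplicative order `12` modulo a prime, and a vector which is fixed by `M` modulo `3`: the
characteristic polynomial of `M` is `Φ₁₂ Φ₃` and `ker Φ₃(M)` contains no vector of norm `2`.
-/

set_option autoImplicit false
set_option linter.unusedSectionVars false

namespace Cfsg.Agent.Lib.ChevTori.Lat

open Polynomial Matrix Cfsg.Agent.Lib.ChevTori.LinAlg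

variable {l : ℕ}

/-- The bilinear form of a matrix. -/
def B (G : Matrix (Fin l) (Fin l) ℤ) (x y : Fin l → ℤ) : ℤ := x ⬝ᵥ (G *ᵥ y)

section Form

variable (G : Matrix (Fin l) (Fin l) ℤ)

theorem B_add_left (x x' y : Fin l → ℤ) : B G (x + x') y = B G x y + B G x' y := by
  simp [B, add_dotProduct]

theorem B_add_right (x y y' : Fin l → ℤ) : B G x (y + y') = B G x y + B G x y' := by
  simp [B, mulVec_add, dotProduct_add]

theorem B_sub_left (x x' y : Fin l → ℤ) : B G (x - x') y = B G x y - B G x' y := by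
  simp [B, sub_dotProduct]

theorem B_sub_right (x y y' : Fin l → ℤ) : B G x (y - y') = B G x y - B G x y' := by
  simp [B, mulVec_sub, dotProduct_sub]

theorem B_neg_left (x y : Fin l → ℤ) : B G (-x) y = - B G x y := by
  simp [B]

theorem B_neg_right (x y : Fin l → ℤ) : B G x (-y) = - B G x y := by
  simp [B, mulVec_neg]

theorem B_smul_left (a : ℤ) (x y : Fin l → ℤ) : B G (a • x) y = a * B G x y := by
  simp only [B, smul_dotProduct, smul_eq_mul]

theorem B_smul_right (a : ℤ) (x y : Fin l → ℤ) : B G x (a • y) = a * B G x y := by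
  simp only [B, mulVec_smul, dotProduct_smul, smul_eq_mul]

theorem B_zero_left (y : Fin l → ℤ) : B G 0 y = 0 := by
  simp [B]

theorem B_zero_right (x : Fin l → ℤ) : B G x 0 = 0 := by
  simp [B]

end Form

/-- A positive definite even symmetric form. -/
structure Lt (G : Matrix (Fin l) (Fin l) ℤ) : Prop where
  symm : ∀ x y, B G x y = B G y x
  pos : ∀ x : Fin l → ℚ, x ≠ 0 → 0 < x ⬝ᵥ (toQ G *ᵥ x)
  even : ∀ x, 2 ∣ B G x x

variable {G : Matrix (Fin l) (Fin l) ℤ}

theorem cast_B (x y : Fin l → ℤ) : ((B G x y : ℤ) : ℚ) = castV x ⬝ᵥ (toQ G *ᵥ castV y) := by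
  simp [B, dotProduct, Matrix.mulVec]

theorem Lt.pos_int (hL : Lt G) {x : Fin l → ℤ} (hx : x ≠ 0) : 0 < B G x x := by
  have := hL.pos _ (castV_ne hx)
  rw [← cast_B] at this
  exact_mod_cast this

theorem Lt.nonneg (hL : Lt G) (x : Fin l → ℤ) : 0 ≤ B G x x := by
  by_cases hx : x = 0
  · rw [hx, B_zero_left]
  · exact (hL.pos_int hx).le

theorem Lt.eq_zero (hL : Lt G) {x : Fin l → ℤ} (h : B G x x = 0) : x = 0 := by
  by_contra hx
  exact (hL.pos_int hx).ne' h

section Iso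

variable {M : Matrix (Fin l) (Fin l) ℤ}

/-- The isometry condition. -/
def IsIso (G M : Matrix (Fin l) (Fin l) ℤ) : Prop := ∀ x y, B G (M *ᵥ x) (M *ᵥ y) = B G x y

theorem IsIso.pow (h : IsIso G M) (k : ℕ) : IsIso G (M ^ k) := by
  induction k with
  | zero =>
    intro x y
    simp
  | succ k ih =>
    intro x y
    rw [pow_succ, ← Matrix.mulVec_mulVec, ← Matrix.mulVec_mulVec, ih, h]

theorem orth_sign {τ : Matrix (Fin l) (Fin l) ℤ} (hτ : IsIso G τ) {x y : Fin l → ℤ}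
    (hx : τ *ᵥ x = x) (hy : τ *ᵥ y = -y) : B G x y = 0 := by
  have h1 := hτ x y
  rw [hx, hy, B_neg_right] at h1
  omega

end Iso

/-- `Φ₁₂`. -/
noncomputable def P12 : ℤ[X] := X ^ 4 - X ^ 2 + 1

/-- `Φ₃`. -/
noncomputable def P3 : ℤ[X] := X ^ 2 + X + 1

theorem cyclotomic_three_eq : cyclotomic 3 ℤ = P3 := by
  rw [P3, cyclotomic_prime ℤ 3, Finset.sum_range_succ, Finset.sum_range_succ, Finset.sum_range_one]
  ring

theorem cyclotomic_six_eq : cyclotomic 6 ℤ = X ^ 2 - X + 1 := by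
  have h := prod_cyclotomic_eq_X_pow_sub_one (n := 6) (by norm_num) ℤ
  have hd : Nat.divisors 6 = {1, 2, 3, 6} := by decide
  rw [hd, Finset.prod_insert (by decide), Finset.prod_insert (by decide),
    Finset.prod_insert (by decide), Finset.prod_singleton, cyclotomic_one, cyclotomic_two,
    cyclotomic_three_eq, P3] at h
  have h0 : ((X - 1 : ℤ[X]) * ((X + 1) * (X ^ 2 + X + 1))) ≠ 0 := by
    have h1 : (X - 1 : ℤ[X]) ≠ 0 := X_sub_C_ne_zero (1 : ℤ) |> fun h => by simpa using h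
    have h2 : (X + 1 : ℤ[X]) ≠ 0 := X_add_C_ne_zero (1 : ℤ) |> fun h => by simpa using h
    have h3 : (X ^ 2 + X + 1 : ℤ[X]) ≠ 0 := by
      intro h4
      have := congrArg (Polynomial.eval 0) h4
      simp at this
    exact mul_ne_zero h1 (mul_ne_zero h2 h3)
  apply mul_left_cancel₀ h0
  rw [show (X - 1 : ℤ[X]) * ((X + 1) * (X ^ 2 + X + 1)) * cyclotomic 6 ℤ =
    (X - 1) * ((X + 1) * ((X ^ 2 + X + 1) * cyclotomic 6 ℤ)) by ring, h]
  ring

theorem cyclotomic_twelve_eq : cyclotomic 12 ℤ = P12 := by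
  have h := cyclotomic_expand_eq_cyclotomic (n := 6) (p := 2) Nat.prime_two (by norm_num) ℤ
  rw [show 6 * 2 = 12 by norm_num] at h
  have h2 : cyclotomic 12 ℤ = expand ℤ 2 (cyclotomic 6 ℤ) := by
    rw [show (12 : ℕ) = 2 * 6 by norm_num]
    exact h.symm
  rw [h2, cyclotomic_six_eq, P12]
  simp [map_sub, map_add, map_pow, expand_X]
  ring

section Dim

/-- Orthogonal cyclic subspaces with irreducible annihilators: the degrees add up to at most `l`. -/
theorem sum_deg_le (hL : Lt G) (M : Matrix (Fin l) (Fin l) ℤ) {k : ℕ} (v : Fin k → (Fin l → ℤ))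
    (P : Fin k → ℤ[X]) (hirr : ∀ i, Irreducible ((P i).map (algebraMap ℤ ℚ))) (hv : ∀ i, v i ≠ 0)
    (hP : ∀ i, aeval M (P i) *ᵥ v i = 0)
    (horth : ∀ i j, i ≠ j → ∀ a b : ℕ, B G (M ^ a *ᵥ v i) (M ^ b *ᵥ v j) = 0) :
    ∑ i, ((P i).map (algebraMap ℤ ℚ)).natDegree ≤ l := by
  classical
  set A := toQ M with hA
  set Q : Fin k → ℚ[X] := fun i => (P i).map (algebraMap ℤ ℚ) with hQ
  let ι := Σ i : Fin k, Fin (Q i).natDegree
  let f : ι → (Fin l → ℚ) := fun x => castV (M ^ (x.2 : ℕ) *ᵥ v x.1)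
  have hind : LinearIndependent ℚ f := by
    rw [Fintype.linearIndependent_iff]
    intro g hg x
    -- the components
    set u : Fin k → (Fin l → ℚ) := fun i => ∑ a : Fin (Q i).natDegree, g ⟨i, a⟩ • f ⟨i, a⟩ with hu
    have hsum : ∑ i, u i = 0 := by
      rw [← hg, Fintype.sum_sigma]
    have hF : ∀ i j, i ≠ j → u i ⬝ᵥ (toQ G *ᵥ u j) = 0 := by
      intro i j hij
      have h1 : ∀ a b, f ⟨i, a⟩ ⬝ᵥ (toQ G *ᵥ f ⟨j, b⟩) = 0 := by
        intro a b
        show castV _ ⬝ᵥ (toQ G *ᵥ castV _) = 0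
        rw [← cast_B, horth i j hij]
        simp
      simp only [hu, Matrix.mulVec_sum, Matrix.mulVec_smul, sum_dotProduct, dotProduct_sum,
        smul_dotProduct, dotProduct_smul, h1, smul_zero, Finset.sum_const_zero]
    have hzero : ∀ j, u j = 0 := by
      intro j
      by_contra hne
      have h1 := hL.pos _ hne
      have h2 : u j ⬝ᵥ (toQ G *ᵥ ∑ i, u i) = u j ⬝ᵥ (toQ G *ᵥ u j) := by
        rw [Matrix.mulVec_sum, dotProduct_sum, Finset.sum_eq_single j]
        · intro i _ hi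
          exact hF j i (Ne.symm hi)
        · simp
      rw [hsum] at h2
      simp only [Matrix.mulVec_zero, dotProduct_zero] at h2
      rw [← h2] at h1
      exact lt_irrefl _ h1
    obtain ⟨j, a⟩ := x
    -- the polynomial
    set p : ℚ[X] := ∑ b : Fin (Q j).natDegree, C (g ⟨j, b⟩) * X ^ (b : ℕ) with hp
    have hpdeg : p.degree < ((Q j).natDegree : ℕ) := degree_sum_fin_lt _
    have hcoeff : p.coeff a = g ⟨j, a⟩ := by
      rw [hp, finsetSum_coeff, Finset.sum_eq_single a]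
      · rw [coeff_C_mul_X_pow, if_pos rfl]
      · intro b _ hb
        rw [coeff_C_mul_X_pow, if_neg]
        intro h
        exact hb (Fin.ext h.symm)
      · simp
    have hpv : aeval A p *ᵥ castV (v j) = u j := by
      rw [hp, map_sum, Matrix.sum_mulVec]
      apply Finset.sum_congr rfl
      intro b _
      rw [map_mul, aeval_C, aeval_X_pow, ← Matrix.mulVec_mulVec, Algebra.algebraMap_eq_smul_one,
        Matrix.smul_mulVec, Matrix.one_mulVec]
      congr 1
      show _ = castV _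
      rw [castV_mulVec, hA, ← Matrix.map_pow]
    have h0 : aeval A (Q j) *ᵥ castV (v j) = 0 := by
      rw [hQ, hA, toQ_aeval, ← castV_mulVec, hP]
      funext i
      simp [castV]
    have hp0 : p = 0 := by
      by_contra hne
      have hnd : ¬ Q j ∣ p := by
        intro hd
        have h1 := Polynomial.natDegree_le_of_dvd hd hne
        rw [Polynomial.degree_eq_natDegree hne] at hpdeg
        have h2 : p.natDegree < (Q j).natDegree := by exact_mod_cast hpdeg
        omega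
      obtain ⟨c, e, hce⟩ := ((hirr j).coprime_iff_not_dvd).2 hnd
      have h4 : aeval A (c * Q j + e * p) *ᵥ castV (v j) = castV (v j) := by
        rw [hce, map_one, Matrix.one_mulVec]
      rw [map_add, map_mul, map_mul, Matrix.add_mulVec, ← Matrix.mulVec_mulVec,
        ← Matrix.mulVec_mulVec, h0, hpv, hzero j, Matrix.mulVec_zero, Matrix.mulVec_zero,
        add_zero] at h4
      exact castV_ne (hv j) h4.symm
    rw [← hcoeff, hp0, coeff_zero]
  have h := hind.fintype_card_le_finrank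
  rw [Module.finrank_fin_fun, Fintype.card_sigma] at h
  simp only [Fintype.card_fin] at h
  exact h

end Dim

section Poly

variable (M : Matrix (Fin l) (Fin l) ℤ)

/-- A polynomial in `M` applied to a vector. -/
noncomputable def pv (f : ℤ[X]) (x : Fin l → ℤ) : Fin l → ℤ := aeval M f *ᵥ x

theorem pv_mul (f g : ℤ[X]) (x : Fin l → ℤ) : pv M (f * g) x = pv M f (pv M g x) := by
  simp only [pv, map_mul, Matrix.mulVec_mulVec]

theorem pv_add (f g : ℤ[X]) (x : Fin l → ℤ) : pv M (f + g) x = pv M f x + pv M g x := by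
  simp only [pv, map_add, Matrix.add_mulVec]

theorem pv_sub (f g : ℤ[X]) (x : Fin l → ℤ) : pv M (f - g) x = pv M f x - pv M g x := by
  simp only [pv, map_sub, Matrix.sub_mulVec]

theorem pv_one (x : Fin l → ℤ) : pv M 1 x = x := by
  simp [pv]

theorem pv_X_pow (k : ℕ) (x : Fin l → ℤ) : pv M (X ^ k) x = M ^ k *ᵥ x := by
  simp [pv]

theorem pv_X (x : Fin l → ℤ) : pv M X x = M *ᵥ x := by
  simp [pv]

theorem pv_C (a : ℤ) (x : Fin l → ℤ) : pv M (C a) x = a • x := by
  simp only [pv, aeval_C, Algebra.algebraMap_eq_smul_one, Matrix.smul_mulVec, Matrix.one_mulVec]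

theorem pv_comm (f g : ℤ[X]) (x : Fin l → ℤ) : pv M f (pv M g x) = pv M g (pv M f x) := by
  rw [← pv_mul, mul_comm, pv_mul]

theorem pv_add_right (f : ℤ[X]) (x y : Fin l → ℤ) : pv M f (x + y) = pv M f x + pv M f y := by
  simp only [pv, Matrix.mulVec_add]

theorem pv_sub_right (f : ℤ[X]) (x y : Fin l → ℤ) : pv M f (x - y) = pv M f x - pv M f y := by
  simp only [pv, Matrix.mulVec_sub]

theorem pv_smul_right (f : ℤ[X]) (a : ℤ) (x : Fin l → ℤ) : pv M f (a • x) = a • pv M f x := by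
  simp only [pv, Matrix.mulVec_smul]

theorem pv_charpoly (x : Fin l → ℤ) : pv M M.charpoly x = 0 := by
  rw [pv, Matrix.aeval_self_charpoly, Matrix.zero_mulVec]

theorem pv_M (f : ℤ[X]) (x : Fin l → ℤ) : pv M f (M *ᵥ x) = M *ᵥ pv M f x := by
  rw [← pv_X, ← pv_X, pv_comm]

theorem pv_pow (f : ℤ[X]) (k : ℕ) (x : Fin l → ℤ) : pv M f (M ^ k *ᵥ x) = M ^ k *ᵥ pv M f x := by
  rw [← pv_X_pow, ← pv_X_pow, pv_comm]

/-- The expansion of `P12`. -/
theorem pv_P12 (x : Fin l → ℤ) : pv M P12 x = M ^ 4 *ᵥ x - M ^ 2 *ᵥ x + x := by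
  rw [P12, pv_add, pv_sub, pv_X_pow, pv_X_pow, pv_one]

/-- The expansion of `P3`. -/
theorem pv_P3 (x : Fin l → ℤ) : pv M P3 x = M *ᵥ (M *ᵥ x) + M *ᵥ x + x := by
  rw [P3, pv_add, pv_add, pv_X_pow, pv_X, pv_one, pow_two, Matrix.mulVec_mulVec]

theorem pow6_of_P12 {x : Fin l → ℤ} (h : pv M P12 x = 0) : M ^ 6 *ᵥ x = -x := by
  have h1 := pv_mul M (X ^ 2 + 1) P12 x
  rw [h] at h1
  have e : (X ^ 2 + 1 : ℤ[X]) * P12 = X ^ 6 + 1 := by
    rw [P12]
    ring
  rw [e, pv_add, pv_X_pow, pv_one] at h1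
  have h2 : pv M (X ^ 2 + 1) (0 : Fin l → ℤ) = 0 := by
    simp [pv]
  rw [h2] at h1
  exact eq_neg_of_add_eq_zero_left h1

theorem pow3_of_P3 {x : Fin l → ℤ} (h : pv M P3 x = 0) : M ^ 3 *ᵥ x = x := by
  have h1 := pv_mul M (X - 1) P3 x
  rw [h] at h1
  have e : (X - 1 : ℤ[X]) * P3 = X ^ 3 - 1 := by
    rw [P3]
    ring
  rw [e, pv_sub, pv_X_pow, pv_one] at h1
  have h2 : pv M (X - 1) (0 : Fin l → ℤ) = 0 := by
    simp [pv]
  rw [h2] at h1
  exact sub_eq_zero.mp h1

theorem pow6_of_P3 {x : Fin l → ℤ} (h : pv M P3 x = 0) : M ^ 6 *ᵥ x = x := by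
  have h1 := pow3_of_P3 M h
  rw [show (6 : ℕ) = 3 + 3 from rfl, pow_add, ← Matrix.mulVec_mulVec, h1, h1]

theorem orth_12_3 {M : Matrix (Fin l) (Fin l) ℤ} (hiso : IsIso G M) {x y : Fin l → ℤ}
    (hx : pv M P3 x = 0) (hy : pv M P12 y = 0) : B G x y = 0 :=
  orth_sign (hiso.pow 6) (pow6_of_P3 M hx) (pow6_of_P12 M hy)

end Poly

theorem irr12 : Irreducible (P12.map (algebraMap ℤ ℚ)) := by
  rw [← cyclotomic_twelve_eq, map_cyclotomic]
  exact cyclotomic.irreducible_rat (by norm_num)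

theorem irr3 : Irreducible (P3.map (algebraMap ℤ ℚ)) := by
  rw [← cyclotomic_three_eq, map_cyclotomic]
  exact cyclotomic.irreducible_rat (by norm_num)

theorem deg12 : (P12.map (algebraMap ℤ ℚ)).natDegree = 4 := by
  rw [← cyclotomic_twelve_eq, map_cyclotomic, natDegree_cyclotomic]
  decide

theorem deg3 : (P3.map (algebraMap ℤ ℚ)).natDegree = 2 := by
  rw [← cyclotomic_three_eq, map_cyclotomic, natDegree_cyclotomic]
  decide

theorem monic12 : P12.Monic := by
  rw [← cyclotomic_twelve_eq]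
  exact cyclotomic.monic _ _

theorem natDeg12 : P12.natDegree = 4 := by
  rw [← cyclotomic_twelve_eq, natDegree_cyclotomic]
  decide

/-- The hypotheses on the form and the isometry. -/
structure Hyp (G M : Matrix (Fin l) (Fin l) ℤ) (z w : Fin l → ℤ) : Prop where
  L : Lt G
  iso : IsIso G M
  tz3 : ∀ y, (3 : ℤ) ∣ B G z y
  tzz : B G z z % 18 = 12
  tz0 : red 3 z ≠ 0
  tM : red 3 (M *ᵥ z) = ((1 : ℤ) : ZMod 3) • red 3 z
  w0 : w ≠ 0
  w12 : pv M P12 w = 0

/-- Connectedness of the graph of the form. -/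
def Conn (G : Matrix (Fin l) (Fin l) ℤ) : Prop :=
  ∀ p : Fin l → Prop, (∀ i j, G i j ≠ 0 → p i → p j) → (∃ i, p i) → ∀ i, p i

variable {M : Matrix (Fin l) (Fin l) ℤ} {z w : Fin l → ℤ}

section YFacts

variable (H : Hyp G M z w)
include H

theorem red_y : red 3 (pv M P12 z) = red 3 z := by
  have h := red_aeval 3 H.tM P12
  have e : P12.eval 1 = 1 := by
    simp [P12]
  rw [e] at h
  simpa [pv] using h

theorem exists_y' : ∃ y' : Fin l → ℤ, pv M P12 z = z + (3 : ℤ) • y' := by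
  have h1 : ∀ i, (3 : ℤ) ∣ pv M P12 z i - z i := by
    intro i
    have h2 := congrFun (red_y H) i
    simp only [red] at h2
    have h3 : (((3 : ℕ) : ℤ)) ∣ pv M P12 z i - z i :=
      (ZMod.intCast_zmod_eq_zero_iff_dvd _ 3).mp (by push_cast; rw [h2, sub_self])
    exact_mod_cast h3
  choose y' hy' using h1
  refine ⟨y', ?_⟩
  funext i
  have := hy' i
  simp only [Pi.add_apply, Pi.smul_apply, smul_eq_mul]
  omega

theorem y_ne : pv M P12 z ≠ 0 := by
  intro h0
  apply H.tz0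
  rw [← red_y H, h0]
  funext i
  simp [red]

theorem y_dvd (v : Fin l → ℤ) : (3 : ℤ) ∣ B G (pv M P12 z) v := by
  obtain ⟨y', hy'⟩ := exists_y' H
  rw [hy', B_add_left, B_smul_left]
  exact dvd_add (H.tz3 v) (dvd_mul_right _ _)

theorem y_norm : B G (pv M P12 z) (pv M P12 z) % 18 = 12 := by
  obtain ⟨y', hy'⟩ := exists_y' H
  rw [hy']
  simp only [B_add_left, B_add_right, B_smul_left, B_smul_right]
  rw [H.L.symm y' z]
  obtain ⟨c, hc⟩ := H.tz3 y'
  obtain ⟨e, he⟩ := H.L.even y'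
  rw [hc, he]
  have := H.tzz
  ring_nf
  omega

end YFacts

/-- A polynomial annihilating the kernel of `P12` and its complement: the decomposition. -/
theorem lemmaD (H : Hyp G M z w) (hdiag : ∀ i, G i i = 2) (hconn : Conn G)
    (hM2 : ∀ x, M ^ 2 *ᵥ pv M P12 x = pv M P12 x) : False := by
  have hτ1 : ∀ x, M ^ 6 *ᵥ pv M P12 x = pv M P12 x := by
    intro x
    rw [show (6 : ℕ) = 2 + (2 + 2) from rfl, pow_add, pow_add, ← Matrix.mulVec_mulVec,
      ← Matrix.mulVec_mulVec, hM2, hM2, hM2]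
  have hid : ∀ x, pv M P12 (pv M P12 x) = pv M P12 x := by
    intro x
    rw [pv_P12 M (pv M P12 x)]
    have e4 : M ^ 4 *ᵥ pv M P12 x = pv M P12 x := by
      rw [show (4 : ℕ) = 2 + 2 from rfl, pow_add, ← Matrix.mulVec_mulVec, hM2, hM2]
    rw [e4, hM2]
    abel
  have hτ2 : ∀ x, M ^ 6 *ᵥ (x - pv M P12 x) = -(x - pv M P12 x) := by
    intro x
    apply pow6_of_P12
    rw [pv_sub_right, hid, sub_self]
  have hort : ∀ x, B G (pv M P12 x) (x - pv M P12 x) = 0 := fun x =>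
    orth_sign (H.iso.pow 6) (hτ1 x) (hτ2 x)
  have hnorm : ∀ x, B G x x = B G (pv M P12 x) (pv M P12 x) +
      B G (x - pv M P12 x) (x - pv M P12 x) := by
    intro x
    have h1 := hort x
    have h2 := H.L.symm (pv M P12 x) (x - pv M P12 x)
    have e : x = pv M P12 x + (x - pv M P12 x) := by abel
    conv_lhs => rw [e]
    rw [B_add_left, B_add_right, B_add_right, ← h2, h1]
    ring
  have hB : ∀ i j, B G (Pi.single i 1) (Pi.single j 1) = G i j := by
    intro i j
    simp [B, Matrix.mulVec_single_one]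
  -- the dichotomy
  have hdich : ∀ i, pv M P12 (Pi.single i 1) = 0 ∨
      ((Pi.single i 1 : Fin l → ℤ) - pv M P12 (Pi.single i 1) = 0) := by
    intro i
    by_contra hcon
    push Not at hcon
    obtain ⟨h1, h2⟩ := hcon
    have h3 := H.L.pos_int h1
    have h4 := H.L.pos_int h2
    obtain ⟨a, ha⟩ := H.L.even (pv M P12 (Pi.single i 1))
    obtain ⟨b, hb⟩ := H.L.even ((Pi.single i 1 : Fin l → ℤ) - pv M P12 (Pi.single i 1))
    have h5 := hnorm (Pi.single i 1)
    rw [hB, hdiag, ha, hb] at h5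
    omega
  have hfix : ∀ i, (Pi.single i 1 : Fin l → ℤ) - pv M P12 (Pi.single i 1) = 0 →
      M ^ 6 *ᵥ (Pi.single i 1 : Fin l → ℤ) = Pi.single i 1 := by
    intro i h
    have h1 := sub_eq_zero.mp h
    have h2 := hτ1 (Pi.single i 1)
    rw [← h1] at h2
    exact h2
  by_cases hex : ∃ i, pv M P12 (Pi.single i 1 : Fin l → ℤ) = 0
  · have hall := hconn (fun i => pv M P12 (Pi.single i 1 : Fin l → ℤ) = 0) (by
      intro i j hij hi
      rcases hdich j with hj | hj
      · exact hj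
      · exfalso
        apply hij
        have h1 := orth_sign (H.iso.pow 6) (hfix j hj) (pow6_of_P12 M hi)
        rw [hB] at h1
        have h2 := H.L.symm (Pi.single i 1) (Pi.single j 1)
        rw [hB, hB] at h2
        rw [h2, h1]) hex
    apply y_ne H
    have h0 : aeval M P12 = 0 := by
      ext i j
      have := congrFun (hall j) i
      simpa [pv, Matrix.mulVec_single_one] using this
    rw [pv, h0, Matrix.zero_mulVec]
  · push Not at hex
    have h6 : M ^ 6 = 1 := by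
      ext i j
      have h1 := hfix j ((hdich j).resolve_left (hex j))
      have h2 := congrFun h1 i
      simpa [Matrix.mulVec_single_one, Matrix.one_apply, Pi.single_apply, eq_comm] using h2
    have h7 := pow6_of_P12 M H.w12
    rw [h6, Matrix.one_mulVec] at h7
    apply H.w0
    funext i
    have := congrFun h7 i
    simp only [Pi.neg_apply, Pi.zero_apply] at this ⊢
    omega

/-- The quadratic expansion. -/
theorem pv_quad (a b : ℤ) (x : Fin l → ℤ) : pv M (X ^ 2 + C a * X + C b) x =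
    M *ᵥ (M *ᵥ x) + a • (M *ᵥ x) + b • x := by
  rw [pv_add, pv_add, pv_mul, pv_X_pow, pv_C, pv_C, pv_X, pow_two, Matrix.mulVec_mulVec]

/-- The cofactor of `P12` in the characteristic polynomial. -/
theorem cofactor_eq (hl : l = 6) (H : Hyp G M z w) (hdiag : ∀ i, G i i = 2) (hconn : Conn G)
    (hdet : IsUnit M.det) {f : ℤ[X]} (hχ : M.charpoly = f * P12) (hf : f.Monic)
    (hdeg : f.natDegree = 2) : f = P3 := by
  set a₁ := f.coeff 1 with ha₁
  set a₀ := f.coeff 0 with ha₀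
  have hfe : f = X ^ 2 + C a₁ * X + C a₀ := by
    have h1 := hf.as_sum
    rw [hdeg, Finset.sum_range_succ, Finset.sum_range_one, pow_zero, pow_one, mul_one] at h1
    calc f = _ := h1
      _ = _ := by
        rw [← ha₁, ← ha₀]
        ring
  -- the constant term
  have ha₀1 : a₀ = 1 ∨ a₀ = -1 := by
    have h1 := Matrix.det_eq_sign_charpoly_coeff M
    rw [hχ, mul_coeff_zero, Fintype.card_fin] at h1
    have e : P12.coeff 0 = 1 := by
      rw [coeff_zero_eq_eval_zero]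
      simp [P12]
    have e6 : (-1 : ℤ) ^ l = 1 := by
      rw [hl]
      norm_num
    rw [e, mul_one, ← ha₀, e6, one_mul] at h1
    rw [h1] at hdet
    exact Int.isUnit_iff.mp hdet
  set y := pv M P12 z with hy
  have hkill : ∀ x, pv M f (pv M P12 x) = 0 := by
    intro x
    rw [← pv_mul, ← hχ, pv_charpoly]
  have hrel : M *ᵥ (M *ᵥ y) + a₁ • (M *ᵥ y) + a₀ • y = 0 := by
    have h1 := hkill z
    rw [hfe, pv_quad] at h1
    exact h1
  -- the congruence
  have h3 : (3 : ℤ) ∣ 1 + a₁ + a₀ := by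
    have h1 := red_aeval 3 H.tM (f * P12)
    rw [← hχ] at h1
    have h2 : aeval M M.charpoly *ᵥ z = 0 := by
      rw [Matrix.aeval_self_charpoly, Matrix.zero_mulVec]
    rw [h2, hχ] at h1
    have e : (f * P12).eval 1 = 1 + a₁ + a₀ := by
      rw [eval_mul, hfe]
      simp [P12]
    rw [e] at h1
    obtain ⟨i, hi⟩ : ∃ i, red 3 z i ≠ 0 := by
      by_contra hcon
      push Not at hcon
      exact H.tz0 (funext hcon)
    have h4 := congrFun h1 i
    simp only [red, Pi.zero_apply, Int.cast_zero, Pi.smul_apply, smul_eq_mul] at h4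
    rcases mul_eq_zero.mp h4.symm with h5 | h5
    · exact (ZMod.intCast_zmod_eq_zero_iff_dvd _ 3).mp h5
    · exact absurd h5 hi
  have hβ : 0 < B G y y := H.L.pos_int (y_ne H)
  set α := B G y (M *ᵥ y) with hα
  have heq : α + a₁ * B G y y + a₀ * α = 0 := by
    have h1 := congrArg (B G (M *ᵥ y)) hrel
    rw [B_zero_right] at h1
    simp only [B_add_right, B_smul_right] at h1
    rw [H.iso y (M *ᵥ y), H.iso y y, H.L.symm (M *ᵥ y) y] at h1
    exact h1
  have hc1 : 0 ≤ 2 * B G y y + 2 * α := by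
    have h1 := H.L.nonneg (y + M *ᵥ y)
    simp only [B_add_left, B_add_right] at h1
    rw [H.iso y y, H.L.symm (M *ᵥ y) y] at h1
    linarith
  have hc2 : 0 ≤ 2 * B G y y - 2 * α := by
    have h1 := H.L.nonneg (y - M *ᵥ y)
    simp only [B_sub_left, B_sub_right] at h1
    rw [H.iso y y, H.L.symm (M *ᵥ y) y] at h1
    linarith
  rcases ha₀1 with h0 | h0
  · -- `a₀ = 1`
    rw [h0] at heq h3
    have hup : a₁ ≤ 2 := by
      by_contra h
      push Not at h
      nlinarith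
    have hlo : -2 ≤ a₁ := by
      by_contra h
      push Not at h
      nlinarith
    have hcases : a₁ = 1 ∨ a₁ = -2 := by omega
    rcases hcases with h1 | h1
    · rw [hfe, h1, h0, P3]
      simp
    · exfalso
      apply lemmaD H hdiag hconn
      intro x
      set u := pv M P12 x with hu
      have h2 := hkill x
      rw [← hu, hfe, pv_quad, h1, h0] at h2
      have h5 : M *ᵥ (M *ᵥ u - u) = M *ᵥ u - u := by
        rw [Matrix.mulVec_sub]
        funext i
        have := congrFun h2 i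
        simp only [Pi.add_apply, Pi.smul_apply, smul_eq_mul, Pi.zero_apply, Pi.sub_apply] at this ⊢
        omega
      have h6 : B G (M *ᵥ u - u) (M *ᵥ u - u) = 0 := by
        rw [B_sub_right (x := M *ᵥ u - u)]
        have h7 := H.iso (M *ᵥ u - u) u
        rw [h5] at h7
        rw [h7, sub_self]
      have h8 := H.L.eq_zero h6
      have h9 : M *ᵥ u = u := sub_eq_zero.mp h8
      rw [pow_two, ← Matrix.mulVec_mulVec, h9, h9]
  · -- `a₀ = -1`
    exfalso
    rw [h0] at heq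
    have h1 : a₁ = 0 := by
      have h2 : a₁ * B G y y = 0 := by linarith
      rcases mul_eq_zero.mp h2 with h3 | h3
      · exact h3
      · exact absurd h3 hβ.ne'
    apply lemmaD H hdiag hconn
    intro x
    have h2 := hkill x
    rw [hfe, pv_quad, h1, h0] at h2
    rw [pow_two, ← Matrix.mulVec_mulVec]
    funext i
    have := congrFun h2 i
    simp only [Pi.add_apply, Pi.smul_apply, smul_eq_mul, Pi.zero_apply] at this
    omega

section Vec

variable {d e ℓ : ℕ} {q : ℤ} [hℓ : Fact ℓ.Prime]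

/-- The eigenvalue condition gives a nonzero vector in the kernel of `Φ_d(M)`. -/
theorem exists_vec (he : 0 < e) (hMe : M ^ e = 1) (hℓe : ¬ ℓ ∣ e)
    (hprim : IsPrimitiveRoot (q : ZMod ℓ) d) {b : Fin l → ℤ}
    (hb : red ℓ b ≠ 0) (hMb : red ℓ (M *ᵥ b) = (q : ZMod ℓ) • red ℓ b) :
    ∃ w : Fin l → ℤ, w ≠ 0 ∧ aeval M (cyclotomic d ℤ) *ᵥ w = 0 := by
  classical
  have hqe : (q : ZMod ℓ) ^ e = 1 := by
    have h1 := red_aeval ℓ hMb (X ^ e)
    rw [map_pow, aeval_X, hMe, Matrix.one_mulVec, eval_pow, eval_X] at h1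
    obtain ⟨i, hi⟩ : ∃ i, red ℓ b i ≠ 0 := by
      by_contra hcon
      push Not at hcon
      exact hb (funext hcon)
    have h2 := congrFun h1 i
    simp only [Pi.smul_apply, smul_eq_mul] at h2
    push_cast at h2
    have h3 : ((q : ZMod ℓ) ^ e - 1) * red ℓ b i = 0 := by
      rw [sub_mul, one_mul, ← h2, sub_self]
    rcases mul_eq_zero.mp h3 with h4 | h4
    · exact sub_eq_zero.mp h4
    · exact absurd h4 hi
  have hde : d ∣ e := hprim.dvd_of_pow_eq_one e hqe
  have hdpos : 0 < d := Nat.pos_of_dvd_of_pos hde he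
  let P : ℤ[X] := ∏ δ ∈ e.divisors.erase d, cyclotomic δ ℤ
  have hP : cyclotomic d ℤ * P = X ^ e - 1 := by
    rw [← prod_cyclotomic_eq_X_pow_sub_one he ℤ]
    exact Finset.mul_prod_erase e.divisors (fun δ => cyclotomic δ ℤ)
      (Nat.mem_divisors.mpr ⟨hde, he.ne'⟩)
  have hPq : ((P.eval q : ℤ) : ZMod ℓ) ≠ 0 := by
    rw [eval_prod, Int.cast_prod, Finset.prod_ne_zero_iff]
    intro δ hδ
    obtain ⟨hδd, hδe⟩ := Finset.mem_erase.mp hδ
    have hδe' := (Nat.mem_divisors.mp hδe).1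
    have hne : ((δ : ℕ) : ZMod ℓ) ≠ 0 := by
      intro h0
      rw [ZMod.natCast_eq_zero_iff] at h0
      exact hℓe (h0.trans hδe')
    haveI : NeZero ((δ : ℕ) : ZMod ℓ) := ⟨hne⟩
    intro h0
    have h1 : (cyclotomic δ (ZMod ℓ)).IsRoot (q : ZMod ℓ) := by
      rw [IsRoot.def, ← map_cyclotomic_int δ (ZMod ℓ)]
      rw [show (q : ZMod ℓ) = (Int.castRingHom (ZMod ℓ)) q by simp, eval_map, eval₂_hom]
      simpa using h0
    have h2 := isRoot_cyclotomic_iff.mp h1
    exact hδd (h2.unique hprim)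
  refine ⟨(aeval M P) *ᵥ b, ?_, ?_⟩
  · intro h0
    have h1 := red_aeval ℓ hMb P
    rw [h0] at h1
    obtain ⟨i, hi⟩ : ∃ i, red ℓ b i ≠ 0 := by
      by_contra hcon
      push Not at hcon
      exact hb (funext hcon)
    have h2 := congrFun h1 i
    simp only [red, Pi.zero_apply, Int.cast_zero, Pi.smul_apply, smul_eq_mul] at h2
    rcases mul_eq_zero.mp h2.symm with h3 | h3
    · exact hPq h3
    · exact hi h3
  · rw [Matrix.mulVec_mulVec, ← map_mul, hP, map_sub, map_pow, aeval_X, hMe, map_one, sub_self,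
      Matrix.zero_mulVec]

end Vec

/-- An irreducible monic polynomial killing a nonzero vector divides the characteristic polynomial. -/
theorem dvd_charpoly {P : ℤ[X]} (hP : P.Monic) (hirr : Irreducible (P.map (algebraMap ℤ ℚ)))
    (hw : w ≠ 0) (h : aeval M P *ᵥ w = 0) : P ∣ M.charpoly := by
  rw [← Polynomial.map_dvd_map (algebraMap ℤ ℚ) (RingHom.injective_int _) hP]
  by_contra hnd
  obtain ⟨a, b, hab⟩ := (hirr.coprime_iff_not_dvd).2 hnd
  have h0 : aeval (toQ M) (P.map (algebraMap ℤ ℚ)) *ᵥ castV w = 0 := by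
    rw [toQ_aeval, ← castV_mulVec, h]
    funext i
    simp [castV]
  have h1 : aeval (toQ M) (M.charpoly.map (algebraMap ℤ ℚ)) *ᵥ castV w = 0 := by
    rw [toQ_aeval, Matrix.aeval_self_charpoly, ← castV_mulVec, Matrix.zero_mulVec]
    funext i
    simp [castV]
  have h2 : aeval (toQ M) (a * P.map (algebraMap ℤ ℚ) + b * M.charpoly.map (algebraMap ℤ ℚ)) *ᵥ
      castV w = castV w := by
    rw [hab, map_one, Matrix.one_mulVec]
  rw [map_add, map_mul, map_mul, Matrix.add_mulVec, ← Matrix.mulVec_mulVec,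
    ← Matrix.mulVec_mulVec, h0, h1, Matrix.mulVec_zero, Matrix.mulVec_zero, add_zero] at h2
  exact castV_ne hw h2.symm

/-- The characteristic polynomial. -/
theorem charpoly_E (hl : l = 6) (H : Hyp G M z w) (hdiag : ∀ i, G i i = 2) (hconn : Conn G)
    {e : ℕ} (he : 0 < e) (hMe : M ^ e = 1) : M.charpoly = P3 * P12 := by
  obtain ⟨f, hf⟩ := dvd_charpoly monic12 irr12 H.w0 H.w12
  have hmon : f.Monic := monic12.of_mul_monic_left (hf ▸ Matrix.charpoly_monic M)
  have hdeg : f.natDegree = 2 := by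
    have h1 := congrArg natDegree hf
    rw [Matrix.charpoly_natDegree_eq_dim, Fintype.card_fin, hl, monic12.natDegree_mul hmon,
      natDeg12] at h1
    omega
  have hdet : IsUnit M.det := by
    have h1 : M.det ^ e = 1 := by
      rw [← Matrix.det_pow, hMe, Matrix.det_one]
    exact IsUnit.of_pow_eq_one h1 he.ne'
  rw [← cofactor_eq hl H hdiag hconn hdet (f := f) (by rw [hf, mul_comm]) hmon hdeg, hf, mul_comm]

theorem P12_P3_kill (hχ : M.charpoly = P3 * P12) (x : Fin l → ℤ) :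
    pv M P12 (pv M P3 x) = 0 := by
  rw [← pv_mul, mul_comm, ← hχ, pv_charpoly]

theorem mv_succ (M : Matrix (Fin l) (Fin l) ℤ) (k : ℕ) (x : Fin l → ℤ) :
    M ^ (k + 1) *ᵥ x = M *ᵥ (M ^ k *ᵥ x) := by
  rw [pow_succ', ← Matrix.mulVec_mulVec]

theorem mv_add (M : Matrix (Fin l) (Fin l) ℤ) (a b : ℕ) (x : Fin l → ℤ) :
    M ^ (a + b) *ᵥ x = M ^ a *ᵥ (M ^ b *ᵥ x) := by
  rw [pow_add, ← Matrix.mulVec_mulVec]

/-- Orbits in the kernel of `Φ₃`. -/
theorem orth_orbit3 (hiso : IsIso G M) {x y : Fin l → ℤ} (hy : pv M P3 y = 0)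
    (h0 : B G x y = 0) (h1 : B G x (M *ᵥ y) = 0) (a b : ℕ) :
    B G (M ^ a *ᵥ x) (M ^ b *ᵥ y) = 0 := by
  have hk : ∀ k : ℕ, B G x (M ^ k *ᵥ y) = 0 ∧ B G x (M ^ (k + 1) *ᵥ y) = 0 := by
    intro k
    induction k with
    | zero =>
      simp only [pow_zero, Matrix.one_mulVec, zero_add, pow_one]
      exact ⟨h0, h1⟩
    | succ k ih =>
      refine ⟨ih.2, ?_⟩
      have h2 := pv_pow M P3 k y
      rw [hy, Matrix.mulVec_zero, pv_P3] at h2
      have h3 := congrArg (B G x) h2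
      rw [B_zero_right, B_add_right, B_add_right, ← mv_succ, ← mv_succ, ih.1, ih.2] at h3
      simpa using h3
  have hp3 : ∀ c : ℕ, M ^ (3 * c) *ᵥ y = y := by
    intro c
    induction c with
    | zero => simp
    | succ c ih =>
      rw [show 3 * (c + 1) = 3 + 3 * c by ring, mv_add, ih, pow3_of_P3 M hy]
  have e : M ^ b *ᵥ y = M ^ a *ᵥ (M ^ (2 * a + b) *ᵥ y) := by
    rw [← mv_add, show a + (2 * a + b) = b + 3 * a by ring, mv_add, hp3]
  rw [e, hiso.pow a]
  exact (hk _).1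

/-- `ker Φ₃(M)` contains no vector of norm two. -/
theorem no_root (hl : l = 6) (H : Hyp G M z w) (hχ : M.charpoly = P3 * P12) {r : Fin l → ℤ}
    (hr : B G r r = 2) (h3 : pv M P3 r = 0) : False := by
  set y := pv M P12 z with hy
  have hy3 : pv M P3 y = 0 := by
    rw [hy, ← pv_mul, ← hχ, pv_charpoly]
  have hr0 : r ≠ 0 := by
    intro h0
    rw [h0, B_zero_left] at hr
    omega
  -- the inner products
  have hrM : B G r (M *ᵥ r) = -1 := by
    have h1 := congrArg (B G (M *ᵥ r)) h3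
    rw [pv_P3, B_zero_right, B_add_right, B_add_right, H.iso r (M *ᵥ r), H.iso r r, hr,
      H.L.symm (M *ᵥ r) r] at h1
    omega
  have hMM : B G (M *ᵥ r) (M *ᵥ r) = 2 := by rw [H.iso, hr]
  have hMr : B G (M *ᵥ r) r = -1 := by rw [H.L.symm, hrM]
  obtain ⟨a, ha⟩ := y_dvd H r
  obtain ⟨b, hb⟩ := y_dvd H (M *ᵥ r)
  rw [← hy] at ha hb
  set e' : Fin l → ℤ := y - (2 * a + b) • r - (a + 2 * b) • (M *ᵥ r) with he'
  have he'r : B G e' r = 0 := by
    rw [he', B_sub_left, B_sub_left, B_smul_left, B_smul_left, ha, hr, hMr]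
    ring
  have he'M : B G e' (M *ᵥ r) = 0 := by
    rw [he', B_sub_left, B_sub_left, B_smul_left, B_smul_left, hb, hrM, hMM]
    ring
  have he'3 : pv M P3 e' = 0 := by
    rw [he', pv_sub_right, pv_sub_right, pv_smul_right, pv_smul_right, hy3, pv_M, h3,
      Matrix.mulVec_zero]
    simp
  have horth3 : ∀ {x x' : Fin l → ℤ}, pv M P3 x = 0 → pv M P12 x' = 0 → ∀ a b : ℕ,
      B G (M ^ a *ᵥ x) (M ^ b *ᵥ x') = 0 := by
    intro x x' hx hx' a b
    apply orth_12_3 H.iso
    · rw [pv_pow, hx, Matrix.mulVec_zero]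
    · rw [pv_pow, hx', Matrix.mulVec_zero]
  have hzero : e' = 0 := by
    by_contra hne
    have h1 := sum_deg_le H.L M ![w, r, e'] ![P12, P3, P3]
      (by
        intro i
        fin_cases i
        · exact irr12
        · exact irr3
        · exact irr3)
      (by
        intro i
        fin_cases i
        · exact H.w0
        · exact hr0
        · exact hne)
      (by
        intro i
        fin_cases i
        · exact H.w12
        · exact h3
        · exact he'3)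
      (by
        intro i j hij c d
        fin_cases i <;> fin_cases j
        · exact absurd rfl hij
        · show B G (M ^ c *ᵥ w) (M ^ d *ᵥ r) = 0
          rw [H.L.symm]
          exact horth3 h3 H.w12 d c
        · show B G (M ^ c *ᵥ w) (M ^ d *ᵥ e') = 0
          rw [H.L.symm]
          exact horth3 he'3 H.w12 d c
        · show B G (M ^ c *ᵥ r) (M ^ d *ᵥ w) = 0
          exact horth3 h3 H.w12 c d
        · exact absurd rfl hij
        · show B G (M ^ c *ᵥ r) (M ^ d *ᵥ e') = 0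
          rw [H.L.symm]
          exact orth_orbit3 H.iso h3 he'r he'M d c
        · show B G (M ^ c *ᵥ e') (M ^ d *ᵥ w) = 0
          exact horth3 he'3 H.w12 c d
        · show B G (M ^ c *ᵥ e') (M ^ d *ᵥ r) = 0
          exact orth_orbit3 H.iso h3 he'r he'M c d
        · exact absurd rfl hij)
    simp only [Fin.sum_univ_three] at h1
    have h12 : ((![P12, P3, P3] : Fin 3 → ℤ[X]) 0).map (algebraMap ℤ ℚ) = P12.map (algebraMap ℤ ℚ) := rfl
    have h31 : ((![P12, P3, P3] : Fin 3 → ℤ[X]) 1).map (algebraMap ℤ ℚ) = P3.map (algebraMap ℤ ℚ) := rfl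
    have h32 : ((![P12, P3, P3] : Fin 3 → ℤ[X]) 2).map (algebraMap ℤ ℚ) = P3.map (algebraMap ℤ ℚ) := rfl
    rw [h12, h31, h32, deg12, deg3] at h1
    omega
  have hye : y = (2 * a + b) • r + (a + 2 * b) • (M *ᵥ r) := by
    have h1 := hzero
    rw [he', sub_sub, sub_eq_zero] at h1
    exact h1
  have hnorm := y_norm H
  rw [← hy, hye] at hnorm
  simp only [B_add_left, B_add_right, B_smul_left, B_smul_right, hr, hrM, hMM, hMr] at hnorm
  have e1 : (2 * a + b) * ((2 * a + b) * 2 + (a + 2 * b) * -1) +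
      (a + 2 * b) * ((2 * a + b) * -1 + (a + 2 * b) * 2) = 6 * (a ^ 2 + a * b + b ^ 2) := by ring
  rw [e1] at hnorm
  have hn : (a ^ 2 + a * b + b ^ 2) % 3 = 2 := by omega
  have key : ∀ x y : ZMod 3, x ^ 2 + x * y + y ^ 2 ≠ 2 := by decide
  apply key (a : ZMod 3) (b : ZMod 3)
  have h4 : ((3 : ℕ) : ℤ) ∣ (a ^ 2 + a * b + b ^ 2) - 2 := by
    push_cast
    omega
  have h5 := (ZMod.intCast_zmod_eq_zero_iff_dvd _ 3).mpr h4
  push_cast at h5
  exact sub_eq_zero.mp h5

/-- The values of `Φ₃` at an element of multiplicative order `12`. -/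
theorem P3_eval_ne {ℓ : ℕ} [Fact ℓ.Prime] {q : ℤ} (hprim : IsPrimitiveRoot (q : ZMod ℓ) 12) :
    ((P3.eval q : ℤ) : ZMod ℓ) ≠ 0 := by
  intro h0
  have h1 : (q : ZMod ℓ) ^ 3 = 1 := by
    have h2 : ((q : ZMod ℓ) - 1) * ((P3.eval q : ℤ) : ZMod ℓ) = (q : ZMod ℓ) ^ 3 - 1 := by
      simp only [P3, eval_add, eval_pow, eval_X, eval_one]
      push_cast
      ring
    rw [h0, mul_zero] at h2
    exact (sub_eq_zero.mp h2.symm)
  have h2 := hprim.dvd_of_pow_eq_one 3 h1
  omega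

theorem cubic_zero {a b c d : ℤ} (h : (C a + C b * X + C c * X ^ 2 + C d * X ^ 3 : ℤ[X]) = 0) :
    a = 0 ∧ b = 0 ∧ c = 0 ∧ d = 0 := by
  have h0 := congrArg (fun p => coeff p 0) h
  have h1 := congrArg (fun p => coeff p 1) h
  have h2 := congrArg (fun p => coeff p 2) h
  have h3 := congrArg (fun p => coeff p 3) h
  simp only [coeff_add, coeff_C_mul, coeff_C, coeff_X, coeff_X_pow, coeff_zero] at h0 h1 h2 h3
  norm_num at h0 h1 h2 h3
  exact ⟨h0, h1, h2, h3⟩

section Stab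

variable {W : Type*} [Group W] [Finite W] {ρ : W →* Matrix (Fin l) (Fin l) ℤ}

/-- The stabilizer of an eigenvector modulo `ℓ` is trivial. -/
theorem stab_one (hl : l = 6) {w₀ : W} (H : Hyp G (ρ w₀) z w) (hχ : (ρ w₀).charpoly = P3 * P12)
    (Rts : Finset (Fin l → ℤ)) (hRts : ∀ r ∈ Rts, B G r r = 2)
    (hS : ∀ (u : W) (v : Fin l → ℤ), ρ u *ᵥ v = v → ρ u ≠ 1 → ∃ r ∈ Rts, B G r v = 0)
    {ℓ : ℕ} [hℓ : Fact ℓ.Prime] (hℓW : ¬ ℓ ∣ Nat.card W) {b : Fin l → ℤ} (hb : red ℓ b ≠ 0)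
    {q : ℤ} (hprim : IsPrimitiveRoot (q : ZMod ℓ) 12)
    (hMb : red ℓ (ρ w₀ *ᵥ b) = (q : ZMod ℓ) • red ℓ b) {u : W}
    (hu : red ℓ (ρ u *ᵥ b) = red ℓ b) : ρ u = 1 := by
  classical
  set M := ρ w₀ with hM
  set S := Cfsg.Agent.Lib.ChevTori.Stab.stabS ρ ℓ b with hS'
  haveI : Fintype S := Fintype.ofFinite _
  have hnorm : ∀ a ∈ S, w₀⁻¹ * a * w₀ ∈ S := by
    intro a ha
    rw [hS', Cfsg.Agent.Lib.ChevTori.Stab.mem_stabS] at ha ⊢
    have h1 : (ρ a).map (Int.castRingHom (ZMod ℓ)) *ᵥ ((q : ZMod ℓ) • red ℓ b) = (q : ZMod ℓ) • red ℓ b := by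
      rw [Matrix.mulVec_smul, ← red_mulVec, ha]
    calc red ℓ (ρ (w₀⁻¹ * a * w₀) *ᵥ b) = red ℓ (ρ w₀⁻¹ *ᵥ (ρ a *ᵥ (ρ w₀ *ᵥ b))) := by
          rw [map_mul, map_mul, Matrix.mulVec_mulVec, Matrix.mulVec_mulVec, mul_assoc]
      _ = (ρ w₀⁻¹).map (Int.castRingHom (ZMod ℓ)) *ᵥ
            ((ρ a).map (Int.castRingHom (ZMod ℓ)) *ᵥ red ℓ (ρ w₀ *ᵥ b)) := by
          rw [red_mulVec, red_mulVec]
      _ = (ρ w₀⁻¹).map (Int.castRingHom (ZMod ℓ)) *ᵥ red ℓ (ρ w₀ *ᵥ b) := by
          rw [hMb, h1]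
      _ = red ℓ (ρ w₀⁻¹ *ᵥ (ρ w₀ *ᵥ b)) := (red_mulVec _ _ _).symm
      _ = red ℓ b := by
          rw [Matrix.mulVec_mulVec, ← map_mul, inv_mul_cancel, map_one, Matrix.one_mulVec]
  set v : Fin l → ℤ := ∑ a : S, ρ (a : W) *ᵥ b with hv
  have hfix : ∀ a ∈ S, ρ a *ᵥ v = v := by
    intro a ha
    rw [hv, Matrix.mulVec_sum]
    refine Fintype.sum_equiv (Equiv.mulLeft (⟨a, ha⟩ : S)) _ _ ?_
    intro x
    simp [Matrix.mulVec_mulVec, map_mul]
  have hredv : red ℓ v = (Fintype.card S : ZMod ℓ) • red ℓ b := by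
    funext i
    have h1 : ∀ a : S, ((ρ (a : W) *ᵥ b) i : ZMod ℓ) = (b i : ZMod ℓ) := fun a =>
      congrFun (Cfsg.Agent.Lib.ChevTori.Stab.mem_stabS.mp a.2) i
    simp only [red, hv, Finset.sum_apply, Int.cast_sum, h1, Finset.sum_const, Finset.card_univ,
      nsmul_eq_mul, Pi.smul_apply, smul_eq_mul]
  have hcard : (Fintype.card S : ZMod ℓ) ≠ 0 := by
    rw [Ne, ZMod.natCast_eq_zero_iff]
    intro h
    apply hℓW
    rw [← Nat.card_eq_fintype_card] at h
    exact h.trans (Subgroup.card_subgroup_dvd_card S)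
  have hpow : ∀ n : ℕ, ∀ a ∈ S, ρ a *ᵥ (M ^ n *ᵥ v) = M ^ n *ᵥ v := by
    intro n
    induction n with
    | zero =>
      intro a ha
      simpa using hfix a ha
    | succ n ih =>
      intro a ha
      have h1 := ih _ (hnorm a ha)
      have h2 : ρ a * M = M * ρ (w₀⁻¹ * a * w₀) := by
        rw [hM, ← map_mul, ← map_mul]
        congr 1
        group
      rw [pow_succ', ← Matrix.mulVec_mulVec, Matrix.mulVec_mulVec (M ^ n *ᵥ v), h2,
        ← Matrix.mulVec_mulVec, h1]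
  -- the vector in the kernel of `Φ₁₂`
  set y := pv M P3 v with hy
  have hy12 : pv M P12 y = 0 := P12_P3_kill hχ v
  have hy0 : y ≠ 0 := by
    intro h0
    have h1 := red_aeval ℓ hMb P3
    have e1 : aeval M P3 *ᵥ v = y := rfl
    have h2 := red_aeval ℓ (q := q) (b := v) (by
      rw [red_mulVec, hredv, Matrix.mulVec_smul, ← red_mulVec, hMb, smul_comm]) P3
    rw [e1, h0, hredv] at h2
    obtain ⟨i, hi⟩ : ∃ i, red ℓ b i ≠ 0 := by
      by_contra hcon
      push Not at hcon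
      exact hb (funext hcon)
    have h4 := congrFun h2 i
    simp only [red, Pi.zero_apply, Int.cast_zero, Pi.smul_apply, smul_eq_mul] at h4
    have h5 := P3_eval_ne hprim
    rcases mul_eq_zero.mp h4.symm with h6 | h6
    · exact h5 h6
    · rcases mul_eq_zero.mp h6 with h7 | h7
      · exact hcard h7
      · exact hi h7
  have huS : u ∈ S := hu
  have hfy : ∀ n : ℕ, ρ u *ᵥ (M ^ n *ᵥ y) = M ^ n *ᵥ y := by
    intro n
    rw [hy, ← pv_pow, pv_P3, ← mv_succ, ← mv_succ, Matrix.mulVec_add, Matrix.mulVec_add,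
      hpow _ _ huS, hpow _ _ huS, hpow _ _ huS]
  by_contra hne
  -- the choice of the integer
  let pr : (Fin l → ℤ) → ℤ[X] := fun r =>
    C (B G r y) + C (B G r (M *ᵥ y)) * X + C (B G r (M ^ 2 *ᵥ y)) * X ^ 2 +
      C (B G r (M ^ 3 *ᵥ y)) * X ^ 3
  have hprod : ∏ r ∈ Rts.filter (fun r => pr r ≠ 0), pr r ≠ 0 := by
    rw [Finset.prod_ne_zero_iff]
    intro r hr
    exact (Finset.mem_filter.mp hr).2
  obtain ⟨x₀, hx₀⟩ : ∃ x₀ : ℤ, (∏ r ∈ Rts.filter (fun r => pr r ≠ 0), pr r).eval x₀ ≠ 0 := by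
    by_contra hcon
    push Not at hcon
    exact hprod (Polynomial.funext (fun x => by rw [hcon x, eval_zero]))
  have hnz : ∀ r ∈ Rts, pr r ≠ 0 → (pr r).eval x₀ ≠ 0 := by
    intro r hr hr0
    rw [eval_prod, Finset.prod_ne_zero_iff] at hx₀
    exact hx₀ r (Finset.mem_filter.mpr ⟨hr, hr0⟩)
  set v' : Fin l → ℤ := y + x₀ • (M *ᵥ y) + x₀ ^ 2 • (M ^ 2 *ᵥ y) + x₀ ^ 3 • (M ^ 3 *ᵥ y) with hv'
  have hfv' : ρ u *ᵥ v' = v' := by
    have h0 := hfy 0
    have h1 := hfy 1
    simp only [pow_zero, Matrix.one_mulVec, pow_one] at h0 h1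
    rw [hv', Matrix.mulVec_add, Matrix.mulVec_add, Matrix.mulVec_add, Matrix.mulVec_smul,
      Matrix.mulVec_smul, Matrix.mulVec_smul, hfy 2, hfy 3, h0, h1]
  obtain ⟨r, hr, hrv⟩ := hS u v' hfv' hne
  have hpr : pr r = 0 := by
    by_contra hr0
    apply hnz r hr hr0
    have e : (pr r).eval x₀ = B G r v' := by
      simp only [pr, eval_add, eval_mul, eval_C, eval_X, eval_pow, hv', B_add_right, B_smul_right]
      ring
    rw [e, hrv]
  obtain ⟨hc0, hc1, hc2, hc3⟩ := cubic_zero hpr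
  -- all powers
  have hall : ∀ j : ℕ, B G r (M ^ j *ᵥ y) = 0 ∧ B G r (M ^ (j + 1) *ᵥ y) = 0 ∧
      B G r (M ^ (j + 2) *ᵥ y) = 0 ∧ B G r (M ^ (j + 3) *ᵥ y) = 0 := by
    intro j
    induction j with
    | zero =>
      simp only [pow_zero, Matrix.one_mulVec, zero_add, pow_one]
      exact ⟨hc0, hc1, hc2, hc3⟩
    | succ j ih =>
      refine ⟨ih.2.1, ih.2.2.1, ih.2.2.2, ?_⟩
      have h1 := pv_pow M P12 j y
      rw [hy12, Matrix.mulVec_zero, pv_P12, ← mv_add, ← mv_add] at h1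
      have h2 := congrArg (B G r) h1
      rw [B_zero_right, B_add_right, B_sub_right, show 4 + j = j + 1 + 3 by ring,
        show 2 + j = j + 2 by ring, ih.2.2.1, ih.1] at h2
      simpa using h2
  have hp12 : ∀ c : ℕ, M ^ (12 * c) *ᵥ y = y := by
    intro c
    induction c with
    | zero => simp
    | succ c ih =>
      have h6 := pow6_of_P12 M hy12
      rw [show 12 * (c + 1) = 6 + (6 + 12 * c) by ring, mv_add, mv_add, ih, h6, Matrix.mulVec_neg, h6]
      simp
  have hall2 : ∀ a b : ℕ, B G (M ^ a *ᵥ r) (M ^ b *ᵥ y) = 0 := by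
    intro a b
    have e : M ^ b *ᵥ y = M ^ a *ᵥ (M ^ (11 * a + b) *ᵥ y) := by
      rw [← mv_add, show a + (11 * a + b) = b + 12 * a by ring, mv_add, hp12]
    rw [e, H.iso.pow a]
    exact (hall _).1
  set r₂ := pv M P3 r with hr₂
  have hr₂0 : r₂ ≠ 0 := fun h0 => no_root hl H hχ (hRts r hr) h0
  have hr₂12 : pv M P12 r₂ = 0 := P12_P3_kill hχ r
  have hall3 : ∀ a b : ℕ, B G (M ^ a *ᵥ r₂) (M ^ b *ᵥ y) = 0 := by
    intro a b
    rw [hr₂, ← pv_pow, pv_P3, ← mv_succ, ← mv_succ, B_add_left, B_add_left, hall2, hall2, hall2]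
    simp
  have h1 := sum_deg_le H.L M ![y, r₂] ![P12, P12]
    (by
      intro i
      fin_cases i
      · exact irr12
      · exact irr12)
    (by
      intro i
      fin_cases i
      · exact hy0
      · exact hr₂0)
    (by
      intro i
      fin_cases i
      · exact hy12
      · exact hr₂12)
    (by
      intro i j hij c d
      fin_cases i <;> fin_cases j
      · exact absurd rfl hij
      · show B G (M ^ c *ᵥ y) (M ^ d *ᵥ r₂) = 0
        rw [H.L.symm]
        exact hall3 d c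
      · exact hall3 c d
      · exact absurd rfl hij)
  simp only [Fin.sum_univ_two] at h1
  have h12 : ((![P12, P12] : Fin 2 → ℤ[X]) 0).map (algebraMap ℤ ℚ) = P12.map (algebraMap ℤ ℚ) := rfl
  have h13 : ((![P12, P12] : Fin 2 → ℤ[X]) 1).map (algebraMap ℤ ℚ) = P12.map (algebraMap ℤ ℚ) := rfl
  rw [h12, h13, deg12] at h1
  omega

end Stab

end Cfsg.Agent.Lib.ChevTori.Lat
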