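import Cfsg.Agent.Lib.ChevTori.Core
import Cfsg.Agent.Lib.ChevTori.Lat

/-!
The Gram matrix of the coroot lattice of a simply laced root system: the Weyl group acts by
isometries; a nontrivial element fixing a vector fixes a coroot orthogonal to it; the vector of the
centre is fixed modulo its order.
-/

set_option autoImplicit false
set_option linter.unusedSectionVars false

namespace Cfsg.Agent.Lib.ChevTori.Gram

open Polynomial Matrix
open Cfsg Cfsg.Lie Cfsg.Agent.Lib.ChevBN.Elem Cfsg.Agent.Lib.ChevBN.Entries Cfsg.Agent.Lib.ChevBN.Table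
open Cfsg.Agent.Lib.ChevBN.Collect Cfsg.Agent.Lib.ChevBN.Rel Cfsg.Agent.Lib.ChevBN.Torus
open Cfsg.Agent.Lib.ChevBN.Monomial Cfsg.Agent.Lib.ChevBN.Core Cfsg.Agent.Lib.ChevBN.Pair
open Cfsg.Agent.Lib.ChevBN.Stmts Cfsg.Agent.Lib.ChevBN.BruhatForm Cfsg.Agent.Lib.ChevBN.Opp
open Cfsg.Agent.Lib.ChevTri.Level Cfsg.Agent.Lib.ChevTri.Datum
open Cfsg.Agent.Lib.BNPair.Basic Cfsg.Agent.Lib.BNPair.Parabolic
open Cfsg.Agent.Lib.ChevOrder.BNCount Cfsg.Agent.Lib.ChevOrder.Chev
open Cfsg.Agent.Lib.ChevOrder.TorusCard Cfsg.Agent.Lib.ChevBN.Levi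
open Cfsg.Agent.Lib.BNPair.CoxeterExchange Cfsg.Agent.Lib.StChar.Top
open Cfsg.Agent.Lib.ChevTori.Act Cfsg.Agent.Lib.ChevTori.LinAlg Cfsg.Agent.Lib.ChevTori.Stab
open Cfsg.Agent.Lib.ChevFix Cfsg.Agent.Lib.ChevTori.Core Cfsg.Agent.Lib.ChevTori.Lat

/-- The Gram matrix. -/
def gram (D : ChevalleyDatum) : Matrix (Fin D.rank) (Fin D.rank) ℤ :=
  Matrix.of fun j k => D.cartan j (D.simple k)

/-- The coroot as a vector. -/
def crV (D : ChevalleyDatum) (s : ℕ) : Fin D.rank → ℤ := fun i => cr D s i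

/-- The simply laced facts. -/
structure SL (D : ChevalleyDatum) : Prop where
  hsl : ∀ a : Fin D.rank, ∀ s : Fin D.nroots,
    D.cartan a s = ∑ b : Fin D.rank, cr D s b * D.cartan a (D.simple b)
  symm : ∀ j k : Fin D.rank, D.cartan j (D.simple k) = D.cartan k (D.simple j)

variable {D : ChevalleyDatum} {K : Type*} [Field K] {η : ℕ → ℕ → ℤ}
variable (hR : Sys D K η) (hT : Tbl D)

/-- The pairing with a coroot. -/
theorem B_crV (hS : SL D) (s : Fin D.nroots) (v : Fin D.rank → ℤ) :
    B (gram D) (crV D s) v = ∑ k : Fin D.rank, D.cartan k s * v k := by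
  simp only [B, dotProduct, Matrix.mulVec, crV, gram, Matrix.of_apply]
  simp_rw [Finset.mul_sum]
  rw [Finset.sum_comm]
  apply Finset.sum_congr rfl
  intro k _
  rw [hS.hsl k s, Finset.sum_mul]
  apply Finset.sum_congr rfl
  intro a _
  rw [hS.symm a k]
  ring

theorem crV_alpha (i : Fin D.rank) : crV D (alphaR hT i) = Pi.single i 1 := by
  funext k
  rw [crV, cr_alpha hT k i, Pi.single_apply]
  simp only [eq_comm]

theorem matW_crV (u : WW (pair hR hT)) (r : Fin D.nroots) :
    matW hR hT u *ᵥ crV D r = crV D (σW hR hT u r) := by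
  funext k
  rw [crV, cr_σW hR hT u k.2 r]
  simp only [Matrix.mulVec, dotProduct, crV]
  apply Finset.sum_congr rfl
  intro j _
  rw [matW_apply, mul_comm]

theorem B_crV_crV (hS : SL D) (s r : Fin D.nroots) :
    B (gram D) (crV D s) (crV D r) = Ad D (cr D r) s := by
  rw [B_crV hS s, Ad_eq_sum, Finset.sum_range]
  apply Finset.sum_congr rfl
  intro k _
  rw [crV, mul_comm]

theorem B_mulVec {l : ℕ} (G M : Matrix (Fin l) (Fin l) ℤ) (x y : Fin l → ℤ) :
    B G (M *ᵥ x) (M *ᵥ y) = B (Mᵀ * G * M) x y := by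
  simp only [B]
  rw [← Matrix.mulVec_mulVec, ← Matrix.mulVec_mulVec, Matrix.dotProduct_mulVec x Mᵀ,
    Matrix.vecMul_transpose]

theorem B_single {l : ℕ} (G : Matrix (Fin l) (Fin l) ℤ) (i j : Fin l) :
    B G (Pi.single i 1) (Pi.single j 1) = G i j := by
  simp [B]

/-- The isometry property. -/
theorem isIso (hS : SL D) (u : WW (pair hR hT)) : IsIso (gram D) (matW hR hT u) := by
  have hmat : (matW hR hT u)ᵀ * gram D * matW hR hT u = gram D := by
    ext k m
    rw [← B_single ((matW hR hT u)ᵀ * gram D * matW hR hT u) k m, ← B_mulVec, ← crV_alpha hT,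
      ← crV_alpha hT, matW_crV, matW_crV, B_crV_crV hS, Ad_σW, ← B_crV_crV hS, crV_alpha hT,
      crV_alpha hT, B_single]
  intro x y
  rw [B_mulVec, hmat]

/-- The entries of a reflection. -/
theorem matW_fW_apply (i j k : Fin D.rank) : matW hR hT (fW hR hT i) j k =
    (if k = j then 1 else 0) - (if j = i then D.cartan k (alphaR hT i) else 0) := by
  rw [matW_apply, σW_fW, Tbl.wPerm_val]
  show cr D (D.reflectRoot i (D.simple k)) j = _
  rw [hT.coroot_w i i.2 _ (hT.simple_lt k.2) j j.2, hT.coroot_simple k k.2 j j.2]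
  have h2 : Ad D (cr D (D.simple k)) (D.simple i) = D.cartan k (alphaR hT i) := by
    rw [Ad_eq_sum, Finset.sum_range]
    rw [Finset.sum_eq_single k]
    · have : cr D (D.simple k) k = if k = k then 1 else 0 := cr_alpha hT k k
      rw [this, if_pos rfl, one_mul]
      rfl
    · intro b _ hb
      have : cr D (D.simple k) b = if k = b then 1 else 0 := cr_alpha hT b k
      rw [this, if_neg (Ne.symm hb), zero_mul]
    · simp
  simp only [Fin.ext_iff]
  split_ifs <;> simp_all [Fin.ext_iff]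

/-- The action of a reflection on a vector. -/
theorem matW_fW_mulVec (i : Fin D.rank) (v : Fin D.rank → ℤ) (j : Fin D.rank) :
    (matW hR hT (fW hR hT i) *ᵥ v) j =
      v j - (if j = i then ∑ k : Fin D.rank, D.cartan k (alphaR hT i) * v k else 0) := by
  simp only [Matrix.mulVec, dotProduct, matW_fW_apply, sub_mul, Finset.sum_sub_distrib, ite_mul,
    one_mul, zero_mul, Finset.sum_ite_eq', Finset.mem_univ, if_true]
  congr 1
  split_ifs <;> simp

/-- The height of a vector. -/
def ht {l : ℕ} (v : Fin l → ℤ) : ℤ := ∑ j, v j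

theorem ht_fW (i : Fin D.rank) (v : Fin D.rank → ℤ) :
    ht (matW hR hT (fW hR hT i) *ᵥ v) = ht v - ∑ k : Fin D.rank, D.cartan k (alphaR hT i) * v k := by
  simp only [ht, matW_fW_mulVec, Finset.sum_sub_distrib]
  congr 1
  simp

include hT in
/-- The coordinates of a negative root are non-positive. -/
theorem cr_nonpos {r : Fin D.nroots} (h : ¬ D.IsPosRoot r) (i : Fin D.rank) : cr D r i ≤ 0 := by
  rcases hT.pos_or_neg r.isLt with h5 | h5
  · exact absurd h5 h
  · have h6 := hT.pos_of_neg h5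
    have h7 := cr_nonneg h6 i
    rw [hT.coroot_neg r r.isLt i i.2] at h7
    omega

/-- A nontrivial element fixing a vector: there is a root orthogonal to the vector. -/
theorem exists_root (hS : SL D) [Finite (WW (pair hR hT))] (u : WW (pair hR hT)) (v : Fin D.rank → ℤ)
    (hv : matW hR hT u *ᵥ v = v) (hu : u ≠ 1) :
    ∃ s : Fin D.nroots, B (gram D) (crV D s) v = 0 := by
  obtain ⟨u₁, hu₁⟩ := Finite.exists_max (fun x : WW (pair hR hT) => ht (matW hR hT x *ᵥ v))
  set lam := matW hR hT u₁ *ᵥ v with hlam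
  have hdom : ∀ i : Fin D.rank, 0 ≤ B (gram D) (crV D (alphaR hT i)) lam := by
    intro i
    have h1 := hu₁ (fW hR hT i * u₁)
    rw [matW_mul, ← Matrix.mulVec_mulVec, ← hlam, ht_fW] at h1
    rw [B_crV hS]
    have h2 : ((alphaR hT i : Fin D.nroots) : ℕ) = alphaR hT i := rfl
    linarith
  set u' := u₁ * u * u₁⁻¹ with hu'
  have hfix : matW hR hT u' *ᵥ lam = lam := by
    rw [hu', hlam, Matrix.mulVec_mulVec, ← matW_mul]
    have e : u₁ * u * u₁⁻¹ * u₁ = u₁ * u := by group
    rw [e, matW_mul, ← Matrix.mulVec_mulVec, hv]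
  have hu'1 : u' ≠ 1 := by
    intro h
    apply hu
    have : u₁ * u = u₁ := by
      have h3 : u₁ * u * u₁⁻¹ = 1 := h
      exact mul_inv_eq_one.mp h3
    exact mul_left_cancel (this.trans (mul_one u₁).symm)
  have hnd : ∃ i : Fin D.rank, ¬ LL (pair hR hT) u' < LL (pair hR hT) (fW hR hT i * u') := by
    by_contra hcon
    push Not at hcon
    exact hu'1 (Cfsg.Agent.Lib.ChevBN.Cent.eq_one_of_no_desc hR hT u' hcon)
  obtain ⟨i, hi⟩ := hnd
  have h2 : LL (pair hR hT) (fW hR hT i * u') < LL (pair hR hT) u' :=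
    lt_of_le_of_ne (not_lt.mp hi) ((setupW hR hT).ne i u')
  have h3 := hK hR hT i u' h2
  rw [← map_inv] at h3
  set r := σW hR hT u'⁻¹ (alphaR hT i) with hr
  have hinv : matW hR hT u'⁻¹ *ᵥ lam = lam := by
    conv_lhs => rw [← hfix]
    rw [Matrix.mulVec_mulVec, ← matW_mul, inv_mul_cancel, matW_one, Matrix.one_mulVec]
  have h4 : B (gram D) (crV D r) lam = B (gram D) (crV D (alphaR hT i)) lam := by
    rw [hr, ← matW_crV, ← isIso hR hT hS u'⁻¹ (crV D (alphaR hT i)) lam, hinv]
  have h5 : B (gram D) (crV D r) lam ≤ 0 := by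
    have e : crV D r = ∑ a : Fin D.rank, cr D r a • (Pi.single a 1 : Fin D.rank → ℤ) := by
      funext k
      simp [crV, Finset.sum_apply, Pi.single_apply]
    have h6 : ∀ (t : Finset (Fin D.rank)), B (gram D) (∑ a ∈ t, cr D r a • (Pi.single a 1 : Fin D.rank → ℤ)) lam ≤ 0 := by
      intro t
      classical
      induction t using Finset.induction_on with
      | empty =>
        rw [Finset.sum_empty, B_zero_left]
      | insert a t ha ih =>
        rw [Finset.sum_insert ha, B_add_left, B_smul_left]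
        have h7 := hdom a
        rw [crV_alpha hT] at h7
        have h8 := cr_nonpos hT h3 a
        nlinarith
    rw [e]
    exact h6 _
  have h6 : B (gram D) (crV D (alphaR hT i)) lam = 0 := by
    have := hdom i
    omega
  refine ⟨σW hR hT u₁⁻¹ (alphaR hT i), ?_⟩
  rw [← matW_crV]
  have e : v = matW hR hT u₁⁻¹ *ᵥ lam := by
    rw [hlam, Matrix.mulVec_mulVec, ← matW_mul, inv_mul_cancel, matW_one, Matrix.one_mulVec]
  rw [e, isIso hR hT hS, h6]

include hR hT in
/-- Norm two of the coroots. -/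
theorem crV_norm (hS : SL D) (hdiag : ∀ i, gram D i i = 2) (s : Fin D.nroots) :
    B (gram D) (crV D s) (crV D s) = 2 := by
  obtain ⟨w, i, hw⟩ := exists_alpha hR hT s
  rw [← hw, ← matW_crV, isIso hR hT hS, crV_alpha hT, B_single, hdiag]

/-- The vector of the centre is fixed modulo the order of the centre. -/
theorem red_fix (hS : SL D) {d : ℕ} {z : Fin D.rank → ℤ}
    (hz : ∀ i : Fin D.rank, (d : ℤ) ∣ ∑ k : Fin D.rank, D.cartan k (alphaR hT i) * z k) (u : WW (pair hR hT)) :
    red d (matW hR hT u *ᵥ z) = red d z := by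
  obtain ⟨l, rfl, -⟩ := (setupW hR hT).ex u
  induction l with
  | nil =>
    simp only [pr_nil, matW_one, Matrix.one_mulVec]
  | cons i l ih =>
    rw [pr_cons, matW_mul, ← Matrix.mulVec_mulVec, red_mulVec, ih, ← red_mulVec]
    funext j
    simp only [red, matW_fW_mulVec]
    split_ifs
    · obtain ⟨c, hc⟩ := hz i
      rw [hc]
      push_cast
      simp
    · simp

end Cfsg.Agent.Lib.ChevTori.Gram
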