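import Cfsg.Agent.Lib.ChevTori.Gram

/-!
Reflections in the Weyl group of a simply laced root system acting on the coroot lattice: the stabilizer
of a vector is generated by reflections in coroots orthogonal to it; the structure of involutions
as products of reflections in pairwise orthogonal coroots.
-/

set_option autoImplicit false
set_option linter.unusedSectionVars false

namespace Cfsg.Agent.Lib.ChevTori.Refl

open Polynomial Matrix
open Cfsg Cfsg.Lie Cfsg.Agent.Lib.ChevBN.Elem Cfsg.Agent.Lib.ChevBN.Entries Cfsg.Agent.Lib.ChevBN.Table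
open Cfsg.Agent.Lib.ChevBN.Collect Cfsg.Agent.Lib.ChevBN.Rel Cfsg.Agent.Lib.ChevBN.Torus
open Cfsg.Agent.Lib.ChevBN.Monomial Cfsg.Agent.Lib.ChevBN.Core Cfsg.Agent.Lib.ChevBN.Pair
open Cfsg.Agent.Lib.ChevBN.Stmts Cfsg.Agent.Lib.ChevBN.BruhatForm Cfsg.Agent.Lib.ChevBN.Opp
open Cfsg.Agent.Lib.ChevTri.Level Cfsg.Agent.Lib.ChevTri.Datum
open Cfsg.Agent.Lib.BNPair.Basic Cfsg.Agent.Lib.BNPair.Parabolic
open Cfsg.Agent.Lib.ChevOrder.BNCount Cfsg.Agent.Lib.ChevOrder.Chev
open Cfsg.Agent.Lib.ChevOrder.TorusCard Cfsg.Agent.Lib.ChevBN.Levi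
open Cfsg.Agent.Lib.BNPair.CoxeterExchange Cfsg.Agent.Lib.StChar.Top
open Cfsg.Agent.Lib.ChevTori.Act Cfsg.Agent.Lib.ChevTori.LinAlg Cfsg.Agent.Lib.ChevTori.Stab
open Cfsg.Agent.Lib.ChevFix Cfsg.Agent.Lib.ChevTori.Core Cfsg.Agent.Lib.ChevTori.Lat
open Cfsg.Agent.Lib.ChevTori.Gram

section Generic

variable {l : ℕ} {G : Matrix (Fin l) (Fin l) ℤ}

theorem B_sum_right {ι : Type*} (t : Finset ι) (x : Fin l → ℤ) (f : ι → (Fin l → ℤ)) :
    B G x (∑ i ∈ t, f i) = ∑ i ∈ t, B G x (f i) := by
  classical
  induction t using Finset.induction_on with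
  | empty => simp [B_zero_right]
  | insert a t ha ih =>
    rw [Finset.sum_insert ha, Finset.sum_insert ha, B_add_right, ih]

/-- A vector orthogonal to the standard basis is orthogonal to everything. -/
theorem B_eq_zero_of_single {x : Fin l → ℤ} (h : ∀ i, B G x (Pi.single i 1) = 0) (y : Fin l → ℤ) :
    B G x y = 0 := by
  have e : y = ∑ i, y i • (Pi.single i 1 : Fin l → ℤ) := by
    funext k
    simp [Finset.sum_apply, Pi.single_apply]
  rw [e, B_sum_right]
  apply Finset.sum_eq_zero
  intro i _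
  rw [B_smul_right, h, mul_zero]

/-- A generic integer combination. -/
theorem exists_generic {n : ℕ} (f : Fin n → (Fin l → ℤ)) (Rts : Finset (Fin l → ℤ)) :
    ∃ a : Fin n → ℤ, ∀ r ∈ Rts, B G r (∑ i, a i • f i) = 0 → ∀ i, B G r (f i) = 0 := by
  classical
  let pr : (Fin l → ℤ) → ℤ[X] := fun r => ∑ i : Fin n, C (B G r (f i)) * Polynomial.X ^ (i : ℕ)
  have hprod : ∏ r ∈ Rts.filter (fun r => pr r ≠ 0), pr r ≠ 0 := by
    rw [Finset.prod_ne_zero_iff]
    intro r hr
    exact (Finset.mem_filter.mp hr).2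
  obtain ⟨x₀, hx₀⟩ : ∃ x₀ : ℤ, (∏ r ∈ Rts.filter (fun r => pr r ≠ 0), pr r).eval x₀ ≠ 0 := by
    by_contra hcon
    push Not at hcon
    exact hprod (Polynomial.funext (fun x => by rw [hcon x, eval_zero]))
  refine ⟨fun i => x₀ ^ (i : ℕ), ?_⟩
  intro r hr h0 i
  have e : (pr r).eval x₀ = B G r (∑ i : Fin n, x₀ ^ (i : ℕ) • f i) := by
    have e1 : ∀ t : Finset (Fin n), B G r (∑ i ∈ t, x₀ ^ (i : ℕ) • f i) =
        ∑ i ∈ t, x₀ ^ (i : ℕ) * B G r (f i) := by
      intro t
      induction t using Finset.induction_on with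
      | empty => simp [B_zero_right]
      | insert a t ha ih =>
        rw [Finset.sum_insert ha, Finset.sum_insert ha, B_add_right, B_smul_right, ih]
    rw [e1]
    simp only [pr, eval_finsetSum, eval_mul, eval_C, eval_pow, eval_X]
    apply Finset.sum_congr rfl
    intro i _
    ring
  have hpr : pr r = 0 := by
    by_contra hr0
    rw [eval_prod, Finset.prod_ne_zero_iff] at hx₀
    apply hx₀ r (Finset.mem_filter.mpr ⟨hr, hr0⟩)
    rw [e, h0]
  have h2 := congrArg (fun p => coeff p (i : ℕ)) hpr
  simp only [pr, finsetSum_coeff, coeff_C_mul_X_pow, coeff_zero] at h2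
  rw [Finset.sum_eq_single i] at h2
  · simpa using h2
  · intro b _ hb
    rw [if_neg]
    intro h
    exact hb (Fin.ext h.symm)
  · simp

end Generic

variable {D : ChevalleyDatum} {K : Type*} [Field K] {η : ℕ → ℕ → ℤ}
variable (hR : Sys D K η) (hT : Tbl D)

/-- The reflection attached to `w` and `i`. -/
noncomputable def rf (w : WW (pair hR hT)) (i : Fin D.rank) : WW (pair hR hT) :=
  w * fW hR hT i * w⁻¹

/-- The root of the reflection. -/
noncomputable def rfR (w : WW (pair hR hT)) (i : Fin D.rank) : Fin D.nroots :=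
  σW hR hT w (alphaR hT i)

theorem matW_inv_mul (w : WW (pair hR hT)) (x : Fin D.rank → ℤ) :
    matW hR hT w⁻¹ *ᵥ (matW hR hT w *ᵥ x) = x := by
  rw [Matrix.mulVec_mulVec, ← matW_mul, inv_mul_cancel, matW_one, Matrix.one_mulVec]

theorem matW_mul_inv (w : WW (pair hR hT)) (x : Fin D.rank → ℤ) :
    matW hR hT w *ᵥ (matW hR hT w⁻¹ *ᵥ x) = x := by
  rw [Matrix.mulVec_mulVec, ← matW_mul, mul_inv_cancel, matW_one, Matrix.one_mulVec]

/-- The simple reflections act by the reflection formula. -/
theorem matW_fW_eq (hS : SL D) (i : Fin D.rank) (v : Fin D.rank → ℤ) :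
    matW hR hT (fW hR hT i) *ᵥ v =
      v - B (gram D) (crV D (alphaR hT i)) v • crV D (alphaR hT i) := by
  funext j
  rw [matW_fW_mulVec, B_crV hS, crV_alpha hT]
  simp only [Pi.sub_apply, Pi.smul_apply, Pi.single_apply, smul_eq_mul]
  split_ifs <;> simp

/-- The reflections act by the reflection formula. -/
theorem matW_rf (hS : SL D) (w : WW (pair hR hT)) (i : Fin D.rank) (x : Fin D.rank → ℤ) :
    matW hR hT (rf hR hT w i) *ᵥ x =
      x - B (gram D) (crV D (rfR hR hT w i)) x • crV D (rfR hR hT w i) := by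
  have h1 : B (gram D) (crV D (alphaR hT i)) (matW hR hT w⁻¹ *ᵥ x) =
      B (gram D) (crV D (σW hR hT w (alphaR hT i))) x := by
    rw [← matW_crV, ← isIso hR hT hS w (crV D (alphaR hT i)) (matW hR hT w⁻¹ *ᵥ x), matW_mul_inv]
  rw [rf, matW_mul, matW_mul, ← Matrix.mulVec_mulVec, ← Matrix.mulVec_mulVec, matW_fW_eq hR hT hS,
    Matrix.mulVec_sub, matW_mul_inv, Matrix.mulVec_smul, matW_crV, rfR, h1]

theorem rf_sq (w : WW (pair hR hT)) (i : Fin D.rank) : rf hR hT w i * rf hR hT w i = 1 := by
  have h := (setupW hR hT).sq i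
  rw [rf]
  calc w * fW hR hT i * w⁻¹ * (w * fW hR hT i * w⁻¹) = w * (fW hR hT i * fW hR hT i) * w⁻¹ := by group
    _ = 1 := by rw [h]; group

/-- The determinant of a simple reflection. -/
theorem det_fW (hS : SL D) (hdiag : ∀ i, gram D i i = 2) (i : Fin D.rank) :
    (matW hR hT (fW hR hT i)).det = -1 := by
  classical
  let c : Fin D.rank → ℤ := fun k => D.cartan k (alphaR hT i)
  let e : Fin D.rank → ℤ := Pi.single i (-1)
  have h1 : matW hR hT (fW hR hT i) = 1 + Matrix.replicateCol Unit e * Matrix.replicateRow Unit c := by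
    ext j k
    rw [matW_fW_apply]
    simp only [Matrix.add_apply, Matrix.mul_apply, Matrix.replicateCol_apply, Matrix.replicateRow_apply,
      Matrix.one_apply, e, c, Pi.single_apply]
    simp only [Finset.univ_unique, Finset.sum_singleton]
    have e1 : (if k = j then (1 : ℤ) else 0) = if j = k then 1 else 0 := by simp only [eq_comm]
    rw [e1]
    by_cases hji : j = i
    · simp only [hji, if_true]
      ring
    · simp only [hji, if_false]
      ring
  rw [h1, Matrix.det_one_add_replicateCol_mul_replicateRow]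
  have h2 : c ⬝ᵥ e = - D.cartan i (alphaR hT i) := by
    simp [dotProduct, e, c, Pi.single_apply]
  have h4 : D.cartan i (alphaR hT i) = 2 := hdiag i
  simp only [h2, h4]
  norm_num

/-- The determinant of a reflection. -/
theorem det_rf (hS : SL D) (hdiag : ∀ i, gram D i i = 2) (w : WW (pair hR hT)) (i : Fin D.rank) :
    (matW hR hT (rf hR hT w i)).det = -1 := by
  have h1 : (matW hR hT w).det * (matW hR hT w⁻¹).det = 1 := by
    rw [← Matrix.det_mul, ← matW_mul, mul_inv_cancel, matW_one, Matrix.det_one]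
  rw [rf, matW_mul, matW_mul, Matrix.det_mul, Matrix.det_mul, det_fW hR hT hS hdiag]
  linear_combination (-1 : ℤ) * h1

section Closure

variable [Finite (WW (pair hR hT))]

/-- The set of reflections in coroots orthogonal to `v`. -/
def rfSet (v : Fin D.rank → ℤ) : Set (WW (pair hR hT)) :=
  {g | ∃ w i, g = rf hR hT w i ∧ B (gram D) (crV D (rfR hR hT w i)) v = 0}

/-- The stabilizer of a vector is generated by the reflections in coroots orthogonal to it. -/
theorem stab_closure (hS : SL D) (u : WW (pair hR hT)) (v : Fin D.rank → ℤ)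
    (hv : matW hR hT u *ᵥ v = v) : u ∈ Subgroup.closure (rfSet hR hT v) := by
  obtain ⟨u₁, hu₁⟩ := Finite.exists_max (fun x : WW (pair hR hT) => ht (matW hR hT x *ᵥ v))
  set lam := matW hR hT u₁ *ᵥ v with hlam
  have hdom : ∀ i : Fin D.rank, 0 ≤ B (gram D) (crV D (alphaR hT i)) lam := by
    intro i
    have h1 := hu₁ (fW hR hT i * u₁)
    rw [matW_mul, ← Matrix.mulVec_mulVec, ← hlam, ht_fW] at h1
    rw [B_crV hS]
    have h2 : ((alphaR hT i : Fin D.nroots) : ℕ) = alphaR hT i := rfl
    linarith
  have key : ∀ n : ℕ, ∀ u' : WW (pair hR hT), LL (pair hR hT) u' ≤ n →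
      matW hR hT u' *ᵥ lam = lam → u₁⁻¹ * u' * u₁ ∈ Subgroup.closure (rfSet hR hT v) := by
    intro n
    induction n with
    | zero =>
      intro u' hl hfix
      by_cases hu'1 : u' = 1
      · subst hu'1
        simp
      · exfalso
        have hnd : ∃ i : Fin D.rank, ¬ LL (pair hR hT) u' < LL (pair hR hT) (fW hR hT i * u') := by
          by_contra hcon
          push Not at hcon
          exact hu'1 (Cfsg.Agent.Lib.ChevBN.Cent.eq_one_of_no_desc hR hT u' hcon)
        obtain ⟨i, hi⟩ := hnd
        have h2 : LL (pair hR hT) (fW hR hT i * u') < LL (pair hR hT) u' :=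
          lt_of_le_of_ne (not_lt.mp hi) ((setupW hR hT).ne i u')
        omega
    | succ n ih =>
      intro u' hl hfix
      by_cases hu'1 : u' = 1
      · subst hu'1
        simp
      have hnd : ∃ i : Fin D.rank, ¬ LL (pair hR hT) u' < LL (pair hR hT) (fW hR hT i * u') := by
        by_contra hcon
        push Not at hcon
        exact hu'1 (Cfsg.Agent.Lib.ChevBN.Cent.eq_one_of_no_desc hR hT u' hcon)
      obtain ⟨i, hi⟩ := hnd
      have h2 : LL (pair hR hT) (fW hR hT i * u') < LL (pair hR hT) u' :=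
        lt_of_le_of_ne (not_lt.mp hi) ((setupW hR hT).ne i u')
      have h3 := hK hR hT i u' h2
      rw [← map_inv] at h3
      set r := σW hR hT u'⁻¹ (alphaR hT i) with hr
      have hinv : matW hR hT u'⁻¹ *ᵥ lam = lam := by
        conv_lhs => rw [← hfix]
        rw [Matrix.mulVec_mulVec, ← matW_mul, inv_mul_cancel, matW_one, Matrix.one_mulVec]
      have h4 : B (gram D) (crV D r) lam = B (gram D) (crV D (alphaR hT i)) lam := by
        rw [hr, ← matW_crV, ← isIso hR hT hS u'⁻¹ (crV D (alphaR hT i)) lam, hinv]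
      have h5 : B (gram D) (crV D r) lam ≤ 0 := by
        have e : crV D r = ∑ a : Fin D.rank, cr D r a • (Pi.single a 1 : Fin D.rank → ℤ) := by
          funext k
          simp [crV, Finset.sum_apply, Pi.single_apply]
        have h6 : ∀ (t : Finset (Fin D.rank)), B (gram D) (∑ a ∈ t, cr D r a • (Pi.single a 1 : Fin D.rank → ℤ)) lam ≤ 0 := by
          intro t
          classical
          induction t using Finset.induction_on with
          | empty =>
            rw [Finset.sum_empty, B_zero_left]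
          | insert a t ha ih =>
            rw [Finset.sum_insert ha, B_add_left, B_smul_left]
            have h7 := hdom a
            rw [crV_alpha hT] at h7
            have h8 := cr_nonpos hT h3 a
            nlinarith
        rw [e]
        exact h6 _
      have h6 : B (gram D) (crV D (alphaR hT i)) lam = 0 := by
        have := hdom i
        omega
      have hfi : matW hR hT (fW hR hT i) *ᵥ lam = lam := by
        rw [matW_fW_eq hR hT hS, h6, zero_smul, sub_zero]
      have hfix' : matW hR hT (fW hR hT i * u') *ᵥ lam = lam := by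
        rw [matW_mul, ← Matrix.mulVec_mulVec, hfix, hfi]
      have h7 := ih (fW hR hT i * u') (by omega) hfix'
      have h8 : u₁⁻¹ * fW hR hT i * u₁ ∈ rfSet hR hT v := by
        refine ⟨u₁⁻¹, i, ?_, ?_⟩
        · rw [rf, inv_inv]
        · rw [rfR, ← matW_crV]
          have e : v = matW hR hT u₁⁻¹ *ᵥ lam := (matW_inv_mul hR hT u₁ v).symm
          rw [e, isIso hR hT hS, h6]
      have e2 : u₁⁻¹ * u' * u₁ = (u₁⁻¹ * fW hR hT i * u₁) * (u₁⁻¹ * (fW hR hT i * u') * u₁) := by
        have hsq := (setupW hR hT).sq i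
        calc u₁⁻¹ * u' * u₁ = u₁⁻¹ * ((fW hR hT i * fW hR hT i) * u') * u₁ := by rw [hsq, one_mul]
          _ = _ := by group
      rw [e2]
      exact Subgroup.mul_mem _ (Subgroup.subset_closure h8) h7
  have hfix' : matW hR hT (u₁ * u * u₁⁻¹) *ᵥ lam = lam := by
    rw [hlam, Matrix.mulVec_mulVec, ← matW_mul]
    have e : u₁ * u * u₁⁻¹ * u₁ = u₁ * u := by group
    rw [e, matW_mul, ← Matrix.mulVec_mulVec, hv]
  have h9 := key _ (u₁ * u * u₁⁻¹) le_rfl hfix'
  have e3 : u₁⁻¹ * (u₁ * u * u₁⁻¹) * u₁ = u := by group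
  rwa [e3] at h9

end Closure

section Invol

variable [Finite (WW (pair hR hT))]

theorem matW_inj {a b : WW (pair hR hT)} (h : matW hR hT a = matW hR hT b) : a = b := by
  have h1 : a * b⁻¹ = 1 := by
    apply eq_one_of_matW hR hT
    rw [matW_mul, h, ← matW_mul, mul_inv_cancel, matW_one]
  exact mul_inv_eq_one.mp h1

/-- An element of the root lattice orthogonal to everything vanishes. -/
theorem eq_zero_of_orth (hL : Lt (gram D)) {x : Fin D.rank → ℤ} (h : ∀ y, B (gram D) x y = 0) : x = 0 :=
  hL.eq_zero (h x)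

/-- A nontrivial involution negates a coroot. -/
theorem exists_neg_root (hS : SL D) (hL : Lt (gram D)) (U : WW (pair hR hT)) (hU : U * U = 1)
    (h1 : U ≠ 1) : ∃ s : Fin D.nroots, matW hR hT U *ᵥ crV D s = - crV D s := by
  classical
  let f : Fin D.rank → (Fin D.rank → ℤ) := fun i =>
    (Pi.single i 1 : Fin D.rank → ℤ) + matW hR hT U *ᵥ (Pi.single i 1 : Fin D.rank → ℤ)
  have hUU : ∀ x, matW hR hT U *ᵥ (matW hR hT U *ᵥ x) = x := by
    intro x
    rw [Matrix.mulVec_mulVec, ← matW_mul, hU, matW_one, Matrix.one_mulVec]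
  have hfi : ∀ i, matW hR hT U *ᵥ f i = f i := by
    intro i
    simp only [f]
    rw [Matrix.mulVec_add, hUU, add_comm]
  let Rts : Finset (Fin D.rank → ℤ) := Finset.univ.image (fun s : Fin D.nroots => crV D s)
  obtain ⟨a, ha⟩ := exists_generic (G := gram D) f Rts
  have hv : matW hR hT U *ᵥ (∑ i, a i • f i) = ∑ i, a i • f i := by
    rw [Matrix.mulVec_sum]
    apply Finset.sum_congr rfl
    intro i _
    rw [Matrix.mulVec_smul, hfi]
  obtain ⟨s, hs⟩ := exists_root hR hT hS U _ hv h1
  refine ⟨s, ?_⟩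
  have h2 := ha _ (Finset.mem_image.mpr ⟨s, Finset.mem_univ _, rfl⟩) hs
  rw [eq_neg_iff_add_eq_zero]
  apply hL.eq_zero
  have hiso := isIso hR hT hS U
  have h3 : ∀ i, B (gram D) (matW hR hT U *ᵥ crV D s + crV D s) (Pi.single i 1) = 0 := by
    intro i
    have h4 := h2 i
    simp only [f] at h4
    rw [B_add_right] at h4
    have h5 := hiso (crV D s) (matW hR hT U *ᵥ (Pi.single i 1 : Fin D.rank → ℤ))
    rw [hUU] at h5
    rw [B_add_left, h5]
    linarith
  exact B_eq_zero_of_single h3 _

/-- The structure of an involution. -/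
theorem inv_struct (hS : SL D) (hL : Lt (gram D)) (hdiag : ∀ i, gram D i i = 2)
    (n : ℕ) (U : WW (pair hR hT)) (hU : U * U = 1)
    (hn : (Finset.univ.filter (fun s : Fin D.nroots => matW hR hT U *ᵥ crV D s = - crV D s)).card ≤ n) :
    ∃ L : List (Fin D.nroots),
      (L.Pairwise fun s t : Fin D.nroots => B (gram D) (crV D s) (crV D t) = 0) ∧
      (∀ s ∈ L, matW hR hT U *ᵥ crV D s = - crV D s) ∧
      (∀ x, x - matW hR hT U *ᵥ x =
        (L.map fun s : Fin D.nroots => B (gram D) (crV D s) x • crV D s).sum) ∧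
      (matW hR hT U).det = (-1) ^ L.length := by
  classical
  induction n generalizing U with
  | zero =>
    by_cases h1 : U = 1
    · subst h1
      refine ⟨[], List.Pairwise.nil, by simp, ?_, ?_⟩
      · intro x
        simp [matW_one]
      · simp [matW_one]
    · exfalso
      obtain ⟨s, hs⟩ := exists_neg_root hR hT hS hL U hU h1
      have h2 : s ∈ Finset.univ.filter (fun s : Fin D.nroots => matW hR hT U *ᵥ crV D s = - crV D s) :=
        Finset.mem_filter.mpr ⟨Finset.mem_univ _, hs⟩
      have h3 := Finset.card_pos.mpr ⟨s, h2⟩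
      omega
  | succ n ih =>
    by_cases h1 : U = 1
    · subst h1
      refine ⟨[], List.Pairwise.nil, by simp, ?_, ?_⟩
      · intro x
        simp [matW_one]
      · simp [matW_one]
    obtain ⟨s, hs⟩ := exists_neg_root hR hT hS hL U hU h1
    obtain ⟨w, i, hwi⟩ := exists_alpha hR hT s
    set g := rf hR hT w i with hg
    have hgs : rfR hR hT w i = s := hwi
    have hsq : g * g = 1 := rf_sq hR hT w i
    have hnorm : B (gram D) (crV D s) (crV D s) = 2 := crV_norm hR hT hS hdiag s
    have hgx : ∀ x, matW hR hT g *ᵥ x = x - B (gram D) (crV D s) x • crV D s := by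
      intro x
      rw [hg, matW_rf hR hT hS, hgs]
    have hiso := isIso hR hT hS U
    have hUU : ∀ x, matW hR hT U *ᵥ (matW hR hT U *ᵥ x) = x := by
      intro x
      rw [Matrix.mulVec_mulVec, ← matW_mul, hU, matW_one, Matrix.one_mulVec]
    have hsU : ∀ x, B (gram D) (crV D s) (matW hR hT U *ᵥ x) = - B (gram D) (crV D s) x := by
      intro x
      have h2 := hiso (crV D s) (matW hR hT U *ᵥ x)
      rw [hUU, hs, B_neg_left] at h2
      omega
    have hgU : ∀ x, matW hR hT g *ᵥ (matW hR hT U *ᵥ x) = matW hR hT U *ᵥ (matW hR hT g *ᵥ x) := by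
      intro x
      rw [hgx, hgx, hsU, Matrix.mulVec_sub, Matrix.mulVec_smul, hs, neg_smul, smul_neg, sub_neg_eq_add]
    have hcomm : U * g = g * U := by
      apply matW_inj hR hT
      rw [matW_mul, matW_mul]
      apply Matrix.ext
      intro a b
      have h3 := congrFun (hgU (Pi.single b 1)) a
      rw [Matrix.mulVec_mulVec, Matrix.mulVec_mulVec, Matrix.mulVec_single_one,
        Matrix.mulVec_single_one] at h3
      exact h3.symm
    set U' := U * g with hU'
    have hU'U' : U' * U' = 1 := by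
      have e1 : U' * U' = U * (g * U) * g := by
        rw [hU']
        group
      rw [e1, ← hcomm]
      have e2 : U * (U * g) * g = (U * U) * (g * g) := by
        group
      rw [e2, hU, hsq, one_mul]
    have hU'x : ∀ x, matW hR hT U' *ᵥ x = matW hR hT U *ᵥ (matW hR hT g *ᵥ x) := by
      intro x
      rw [hU', matW_mul, Matrix.mulVec_mulVec]
    have hU's : matW hR hT U' *ᵥ crV D s = crV D s := by
      rw [hU'x, hgx, hnorm, Matrix.mulVec_sub, hs, Matrix.mulVec_smul, hs]
      funext a
      simp only [Pi.sub_apply, Pi.neg_apply, Pi.smul_apply, smul_eq_mul]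
      ring
    have hiso' := isIso hR hT hS U'
    have horth : ∀ t : Fin D.nroots, matW hR hT U' *ᵥ crV D t = - crV D t →
        B (gram D) (crV D s) (crV D t) = 0 := fun t ht => orth_sign hiso' hU's ht
    have hUt : ∀ t : Fin D.nroots, matW hR hT U' *ᵥ crV D t = - crV D t →
        matW hR hT U *ᵥ crV D t = - crV D t := by
      intro t ht
      have h3 := hU'x (crV D t)
      rw [ht, hgx, horth t ht, zero_smul, sub_zero] at h3
      exact h3.symm
    have hcard : (Finset.univ.filter (fun s : Fin D.nroots =>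
        matW hR hT U' *ᵥ crV D s = - crV D s)).card ≤ n := by
      have hsub : Finset.univ.filter (fun s : Fin D.nroots => matW hR hT U' *ᵥ crV D s = - crV D s) ⊆
          (Finset.univ.filter (fun s : Fin D.nroots => matW hR hT U *ᵥ crV D s = - crV D s)).erase s := by
        intro t ht
        have ht' := (Finset.mem_filter.mp ht).2
        refine Finset.mem_erase.mpr ⟨?_, Finset.mem_filter.mpr ⟨Finset.mem_univ _, hUt t ht'⟩⟩
        rintro rfl
        have h3 := horth _ ht'
        rw [hnorm] at h3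
        omega
      have h4 := Finset.card_le_card hsub
      have hmem : s ∈ Finset.univ.filter (fun s : Fin D.nroots => matW hR hT U *ᵥ crV D s = - crV D s) :=
        Finset.mem_filter.mpr ⟨Finset.mem_univ _, hs⟩
      rw [Finset.card_erase_of_mem hmem] at h4
      omega
    obtain ⟨L', hL1, hL2, hL3, hL4⟩ := ih U' hU'U' hcard
    refine ⟨s :: L', ?_, ?_, ?_, ?_⟩
    · rw [List.pairwise_cons]
      exact ⟨fun t ht => horth t (hL2 t ht), hL1⟩
    · intro t ht
      rcases List.mem_cons.mp ht with rfl | ht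
      · exact hs
      · exact hUt t (hL2 t ht)
    · intro x
      have e1 : matW hR hT U *ᵥ x = matW hR hT U' *ᵥ x - B (gram D) (crV D s) x • crV D s := by
        have h3 : U = U' * g := by
          rw [hU', mul_assoc, hsq, mul_one]
        conv_lhs => rw [h3, matW_mul, ← Matrix.mulVec_mulVec, hgx, Matrix.mulVec_sub, Matrix.mulVec_smul,
          hU's]
      rw [List.map_cons, List.sum_cons, ← hL3 x, e1]
      abel
    · have h3 : U = U' * g := by
        rw [hU', mul_assoc, hsq, mul_one]
      have h4 : (matW hR hT U).det = (matW hR hT U').det * (matW hR hT g).det := by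
        conv_lhs => rw [h3, matW_mul, Matrix.det_mul]
      rw [h4, hL4, hg, det_rf hR hT hS hdiag, List.length_cons, pow_succ]

end Invol

end Cfsg.Agent.Lib.ChevTori.Refl
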