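import Cfsg.Agent.Lib.ChevTori.SL2Lang
import Cfsg.Agent.Lib.Chevalley.SL2Root
import Cfsg.Agent.Lib.ChevTori.Refl
import Cfsg.Agent.Lib.ChevBN.ConjH
import Cfsg.Agent.Lib.ChevAut.Basic
import Cfsg.Agent.Lib.Invol.Lace

/-!
The homomorphisms `SL₂(K) → G` attached to the roots of a Chevalley group: injectivity, the action of
monomial elements, commutation for orthogonal roots.
-/

set_option autoImplicit false
set_option linter.unusedSectionVars false

namespace Cfsg.Agent.Lib.ChevTori.RootSL2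

open Matrix
open Cfsg Cfsg.Lie Cfsg.Agent.Lib.ChevBN.Elem Cfsg.Agent.Lib.ChevBN.Entries Cfsg.Agent.Lib.ChevBN.Table
open Cfsg.Agent.Lib.ChevBN.Collect Cfsg.Agent.Lib.ChevBN.Rel Cfsg.Agent.Lib.ChevBN.Torus
open Cfsg.Agent.Lib.ChevBN.Monomial Cfsg.Agent.Lib.ChevBN.Core Cfsg.Agent.Lib.ChevBN.Pair
open Cfsg.Agent.Lib.ChevBN.Stmts Cfsg.Agent.Lib.ChevBN.BruhatForm Cfsg.Agent.Lib.ChevBN.Opp
open Cfsg.Agent.Lib.ChevTri.Level Cfsg.Agent.Lib.ChevTri.Datum
open Cfsg.Agent.Lib.BNPair.Basic Cfsg.Agent.Lib.BNPair.Parabolic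
open Cfsg.Agent.Lib.ChevOrder.BNCount Cfsg.Agent.Lib.ChevOrder.Chev
open Cfsg.Agent.Lib.ChevOrder.TorusCard Cfsg.Agent.Lib.ChevBN.Levi
open Cfsg.Agent.Lib.BNPair.CoxeterExchange Cfsg.Agent.Lib.StChar.Top
open Cfsg.Agent.Lib.ChevTori.Act Cfsg.Agent.Lib.ChevTori.LinAlg Cfsg.Agent.Lib.ChevTori.Lat
open Cfsg.Agent.Lib.ChevFix Cfsg.Agent.Lib.ChevTori.Core Cfsg.Agent.Lib.ChevTori.Gram
open Cfsg.Agent.Lib.ChevTori.Refl Cfsg.Agent.Lib.ChevTori.SL2Lang Cfsg.Agent.Lib.ChevBN.ConjH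
open Cfsg.Agent.Lib.Chevalley

local notation "SL₂" K => SpecialLinearGroup (Fin 2) K

section Ext

variable {K : Type*} [Field K]

/-- Homomorphisms from `SL₂` are determined by their values on `X` and `Y`. -/
theorem sl2_hom_ext {G : Type*} [Group G] {f g : (SL₂ K) →* G}
    (hX : ∀ t, f (SL2Hom.X t) = g (SL2Hom.X t)) (hY : ∀ t, f (SL2Hom.Y t) = g (SL2Hom.Y t)) : f = g := by
  have hW : ∀ t, f (SL2Hom.Wm t) = g (SL2Hom.Wm t) := by
    intro t
    simp only [SL2Hom.Wm, map_mul, hX, hY]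
  ext1 a
  by_cases hc : a.1 1 0 = 0
  · rw [SL2Hom.decomp2 a hc]
    simp only [map_mul, hX, hW]
  · rw [SL2Hom.decomp1 a hc]
    simp only [map_mul, hX, hW]

/-- The swap. -/
noncomputable def Pw : GL (Fin 2) K :=
  GeneralLinearGroup.mkOfDetNeZero !![0, 1; 1, 0] (by simp [Matrix.det_fin_two])

theorem Pw_val : ((Pw : GL (Fin 2) K) : Matrix (Fin 2) (Fin 2) K) = !![0, 1; 1, 0] := rfl

theorem Cj_Pw_X (t : K) : Cj Pw (SL2Hom.X t) = SL2Hom.Y t := by
  apply Cj_eq_iff.mpr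
  rw [Pw_val, SL2Hom.X_coe, SL2Hom.Y_coe]
  ext i j
  fin_cases i <;> fin_cases j <;> simp

theorem Cj_Pw_Y (t : K) : Cj Pw (SL2Hom.Y t) = SL2Hom.X t := by
  apply Cj_eq_iff.mpr
  rw [Pw_val, SL2Hom.X_coe, SL2Hom.Y_coe]
  ext i j
  fin_cases i <;> fin_cases j <;> simp

/-- The diagonal matrix with entries `κ`, `1`. -/
noncomputable def Dk (κ : K) (hκ : κ ≠ 0) : GL (Fin 2) K :=
  GeneralLinearGroup.mkOfDetNeZero !![κ, 0; 0, 1] (by simp [Matrix.det_fin_two, hκ])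

theorem Dk_val (κ : K) (hκ : κ ≠ 0) : ((Dk κ hκ : GL (Fin 2) K) : Matrix (Fin 2) (Fin 2) K) = !![κ, 0; 0, 1] := rfl

theorem Cj_Dk_X (κ : K) (hκ : κ ≠ 0) (t : K) : Cj (Dk κ hκ) (SL2Hom.X t) = SL2Hom.X (κ * t) := by
  apply Cj_eq_iff.mpr
  rw [Dk_val, SL2Hom.X_coe, SL2Hom.X_coe]
  ext i j
  fin_cases i <;> fin_cases j <;> simp

theorem Cj_Dk_Y (κ : K) (hκ : κ ≠ 0) (t : K) : Cj (Dk κ hκ) (SL2Hom.Y t) = SL2Hom.Y (κ⁻¹ * t) := by
  apply Cj_eq_iff.mpr
  rw [Dk_val, SL2Hom.Y_coe, SL2Hom.Y_coe]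
  ext i j
  fin_cases i <;> fin_cases j <;> simp [hκ]
  field_simp

theorem Fr_X (σ : K →+* K) (t : K) : Fr σ (SL2Hom.X t) = SL2Hom.X (σ t) := by
  apply Subtype.ext
  rw [Fr_val, SL2Hom.X_coe, SL2Hom.X_coe]
  ext i j
  fin_cases i <;> fin_cases j <;> simp

theorem Fr_Y (σ : K →+* K) (t : K) : Fr σ (SL2Hom.Y t) = SL2Hom.Y (σ t) := by
  apply Subtype.ext
  rw [Fr_val, SL2Hom.Y_coe, SL2Hom.Y_coe]
  ext i j
  fin_cases i <;> fin_cases j <;> simp

/-- Conjugation by an element of `SL₂`. -/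
theorem Cj_toGL (b a : SL₂ K) : Cj (SpecialLinearGroup.toGL b) a = b * a * b⁻¹ := by
  apply Cj_eq_iff.mpr
  have h1 : (b⁻¹ : SL₂ K).1 * b.1 = 1 := by
    rw [← SL2Hom.coe_mul', inv_mul_cancel]
    rfl
  show b.1 * a.1 = b.1 * a.1 * (b⁻¹ : SL₂ K).1 * b.1
  rw [Matrix.mul_assoc, h1, Matrix.mul_one]

/-- The identity behind the conjugation by monomial elements. -/
theorem conj_entry {c d : K} (hc : c ≠ 0)
    (h : (SL2Hom.X c * SL2Hom.Y (-d) * SL2Hom.X c) * SL2Hom.X c =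
      SL2Hom.Y (-d) * (SL2Hom.X c * SL2Hom.Y (-d) * SL2Hom.X c)) : c * d = 1 := by
  have h1 := congrFun (congrFun (congrArg Subtype.val h) 0) 1
  simp only [SL2Hom.coe_mul', SL2Hom.X_coe, SL2Hom.Y_coe, Matrix.mul_apply, Fin.sum_univ_two] at h1
  simp at h1
  rcases h1 with h3 | h3
  · linear_combination -h3
  · exact absurd h3 hc

/-- The action of `Wm 1`. -/
theorem Wm_conj (t : K) : (SL2Hom.X (1 : K) * SL2Hom.Y (-1) * SL2Hom.X 1) * SL2Hom.X t =
    SL2Hom.Y (-t) * (SL2Hom.X (1 : K) * SL2Hom.Y (-1) * SL2Hom.X 1) := by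
  apply SL2Hom.sl2_ext <;>
    simp only [SL2Hom.coe_mul', SL2Hom.X_coe, SL2Hom.Y_coe, Matrix.mul_apply, Fin.sum_univ_two] <;>
    simp <;> ring

/-- The conjugate of `X` by `Wm v`. -/
theorem Wm_conj' {v : K} (hv : v ≠ 0) : SL2Hom.Wm v * SL2Hom.X 1 = SL2Hom.Y (-(v⁻¹ * v⁻¹)) * SL2Hom.Wm v := by
  apply SL2Hom.sl2_ext <;>
    simp only [SL2Hom.Wm, SL2Hom.coe_mul', SL2Hom.X_coe, SL2Hom.Y_coe, Matrix.mul_apply,
      Fin.sum_univ_two] <;>
    simp <;> field_simp <;> (try ring) <;> (try simp)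

end Ext

noncomputable section

variable {D : ChevalleyDatum} {K : Type*} [Field K] {η : ℕ → ℕ → ℤ}
variable (hR : Sys D K η) (hT : Tbl D) (hc : ∀ i < D.rank, D.cartan i (D.simple i) = 2)
  (hη : ∀ i < D.rank, η i (D.simple i) = -1)

/-- The homomorphism attached to a root. -/
def psi (s : Fin D.nroots) : (SL₂ K) →* GL D.Idx K :=
  SL2Hom.hom (Cfsg.Agent.Lib.Chevalley.SL2Root.rel hR hT hc hη s.2)

theorem psi_X (s : Fin D.nroots) (t : K) : psi hR hT hc hη s (SL2Hom.X t) = X hR.toAddRel s t :=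
  SL2Hom.hom_X _ t

theorem psi_Y (s : Fin D.nroots) (t : K) : psi hR hT hc hη s (SL2Hom.Y t) = X hR.toAddRel (D.neg s) t :=
  SL2Hom.hom_Y _ t

theorem psi_mem (s : Fin D.nroots) (S : Subgroup (GL D.Idx K)) (hx : ∀ t, X hR.toAddRel s t ∈ S)
    (hy : ∀ t, X hR.toAddRel (D.neg s) t ∈ S) (a : SL₂ K) : psi hR hT hc hη s a ∈ S :=
  SL2Hom.hom_mem _ S hx hy a

/-- The root `-s` corresponds to the swap. -/
theorem psi_neg (s : Fin D.nroots) (a : SL₂ K) :
    psi hR hT hc hη (negF hT s) a = psi hR hT hc hη s (Cj Pw a) := by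
  have h : psi hR hT hc hη (negF hT s) = (psi hR hT hc hη s).comp (Cj Pw) := by
    apply sl2_hom_ext
    · intro t
      rw [MonoidHom.comp_apply, Cj_Pw_X, psi_X, psi_Y]
      rfl
    · intro t
      rw [MonoidHom.comp_apply, Cj_Pw_Y, psi_X, psi_Y]
      show X hR.toAddRel (D.neg (D.neg s)) t = _
      rw [hT.neg_neg s s.2]
  rw [h]
  rfl

theorem psi_mp (σ : K →+* K) (s : Fin D.nroots) (a : SL₂ K) :
    mp σ (psi hR hT hc hη s a) = psi hR hT hc hη s (Fr σ a) := by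
  have h : (mp σ).comp (psi hR hT hc hη s) = (psi hR hT hc hη s).comp (Fr σ) := by
    apply sl2_hom_ext
    · intro t
      simp only [MonoidHom.comp_apply]
      rw [psi_X, Fr_X, psi_X, mp_X σ hR.toAddRel hR.toAddRel]
    · intro t
      simp only [MonoidHom.comp_apply]
      rw [psi_Y, Fr_Y, psi_Y, mp_X σ hR.toAddRel hR.toAddRel]
  exact congrArg (fun f => f a) h

/-- The diagonal matrices go to the elements `h`. -/
theorem psi_dg (s : Fin D.nroots) (d : Kˣ) : psi hR hT hc hη s (dg d) = hG hR.toAddRel s d := by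
  show SL2Hom.phi (dg d) = _
  rw [SL2Hom.phi, if_pos (by simp [dg_val])]
  simp only [dg_val]
  simp
  rfl

/-- The element `Wm`. -/
theorem psi_Wm (s : Fin D.nroots) (t : K) : psi hR hT hc hη s (SL2Hom.Wm t) = nG hR.toAddRel s t := by
  rw [SL2Hom.Wm, map_mul, map_mul, psi_X, psi_Y]
  rfl

/-- The homomorphism of a positive root is injective. -/
theorem psi_inj_pos (hnb : ∀ s : Fin D.nroots, ∃ s' : Fin D.nroots, Ad D (cr D s) s' = 1)
    (s : Fin D.nroots) (hs : D.IsPosRoot s) : Function.Injective (psi hR hT hc hη s) := by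
  rw [injective_iff_map_eq_one]
  intro a ha
  by_cases h0 : a.1 1 0 = 0
  · have e := SL2Hom.decomp2 a h0
    have hdet := SL2Hom.det_eq a
    rw [h0, mul_zero, sub_zero] at hdet
    have hd0 : a.1 0 0 ≠ 0 := left_ne_zero_of_mul_eq_one hdet
    have h1 := congrArg (psi hR hT hc hη s) e
    rw [ha, map_mul, map_mul, psi_X, psi_Wm, psi_Wm] at h1
    have h2 : nG hR.toAddRel s (a.1 0 0) * nG hR.toAddRel s (-1) = hG hR.toAddRel s (a.1 0 0) := rfl
    rw [h2] at h1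
    have hH := hG_mem_diagonal hR s.2 hd0
    have h3 : X hR.toAddRel s (a.1 0 0 * a.1 0 1) = (hG hR.toAddRel s (a.1 0 0))⁻¹ :=
      eq_inv_of_mul_eq_one_left h1.symm
    have h4 : a.1 0 0 * a.1 0 1 = 0 :=
      X_not_mem_H hR hT s.2 (by rw [h3]; exact Subgroup.inv_mem _ hH)
    have h01 : a.1 0 1 = 0 := (mul_eq_zero.mp h4).resolve_left hd0
    rw [h4, X_zero, one_mul] at h1
    obtain ⟨s', hs'⟩ := hnb s
    have h5 := hP_conj hR (c := fun j => a.1 0 0 ^ cr D s j) (fun j _ => zpow_ne_zero _ hd0) s'.2 (1 : K)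
    rw [← hG_eq_hP hR hT s.2 hd0, ← h1, chi_pow hd0, hs'] at h5
    simp only [one_mul, inv_one, mul_one, zpow_one] at h5
    have h6 : a.1 0 0 = 1 := (Cfsg.Agent.Lib.ChevAut.X_inj hR hT s'.2 h5).symm
    rw [h6, one_mul] at hdet
    apply SL2Hom.sl2_ext
    · rw [h6]; rfl
    · rw [h01]; rfl
    · rw [h0]; rfl
    · rw [hdet]; rfl
  · exfalso
    have e := SL2Hom.decomp1 a h0
    set v : K := -(a.1 1 0)⁻¹ with hv
    have hv0 : v ≠ 0 := neg_ne_zero.mpr (inv_ne_zero h0)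
    set p := a.1 0 0 / a.1 1 0 with hp
    set r := a.1 1 1 / a.1 1 0 with hr
    have h1 := congrArg (psi hR hT hc hη s) e
    rw [ha, map_mul, map_mul, psi_X, psi_X] at h1
    have h2 : psi hR hT hc hη s (SL2Hom.Wm v) = X hR.toAddRel s (-p + -r) := by
      have : psi hR hT hc hη s (SL2Hom.Wm v) =
          (X hR.toAddRel s p)⁻¹ * (X hR.toAddRel s p * psi hR hT hc hη s (SL2Hom.Wm v) * X hR.toAddRel s r) *
            (X hR.toAddRel s r)⁻¹ := by group
      rw [this, ← h1, X_inv, X_inv]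
      simp
    have h3 := congrArg (psi hR hT hc hη s) (Wm_conj' hv0)
    rw [map_mul, map_mul, h2, psi_X, psi_Y, X_mul, add_comm, ← X_mul, mul_left_inj] at h3
    have h4 := Cfsg.Agent.Lib.ChevAut.X_sep hR hT hs h3
    exact one_ne_zero h4

theorem Cj_Pw_inj : Function.Injective (Cj (Pw : GL (Fin 2) K)) := by
  intro a b h
  have h1 := congrArg (Cj (Pw : GL (Fin 2) K)⁻¹) h
  rwa [← Cj_mul, ← Cj_mul, inv_mul_cancel, Cj_one, Cj_one] at h1

/-- The homomorphism of any root is injective. -/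
theorem psi_inj (hnb : ∀ s : Fin D.nroots, ∃ s' : Fin D.nroots, Ad D (cr D s) s' = 1)
    (s : Fin D.nroots) : Function.Injective (psi hR hT hc hη s) := by
  rcases hT.pos_or_neg s.2 with h | h
  · exact psi_inj_pos hR hT hc hη hnb s h
  · have h1 : D.IsPosRoot (negF hT s) := hT.pos_of_neg h
    have h2 := psi_inj_pos hR hT hc hη hnb (negF hT s) h1
    have h3 : negF hT (negF hT s) = s := Fin.ext (hT.neg_neg s s.2)
    intro a b hab
    have e : ∀ c, psi hR hT hc hη s c = psi hR hT hc hη (negF hT s) (Cj Pw c) := by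
      intro c
      rw [← psi_neg, h3]
    rw [e a, e b] at hab
    exact Cj_Pw_inj (h2 hab)

/-- Conjugation by an element of `N`. -/
theorem psi_conj_N (hnb : ∀ s : Fin D.nroots, ∃ s' : Fin D.nroots, Ad D (cr D s) s' = 1)
    (n : ↥(pair hR hT).N) (s : Fin D.nroots) :
    ∃ A : GL (Fin 2) K, ∀ a : SL₂ K,
      ((n : ↥(D.group K)) : GL D.Idx K) * psi hR hT hc hη s a * ((n : ↥(D.group K)) : GL D.Idx K)⁻¹ =
        psi hR hT hc hη (σW hR hT (QuotientGroup.mk n) s) (Cj A a) := by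
  set N₀ : GL D.Idx K := ((n : ↥(D.group K)) : GL D.Idx K) with hN₀
  set π := σW hR hT (QuotientGroup.mk n) with hπ
  have hπ' : π = permOf (toMono hR hT n) := σW_mk hR hT n
  have hnN : N₀ ∈ D.monomialSubgroup K := (mem_PN hR hT).1 n.2
  have hm := mem_mono_of_N hR hT hnN
  obtain ⟨κ₁, h₁, e₁⟩ := conj_of_mem_N hR hT hnN hm s
  obtain ⟨κ₂, h₂, e₂⟩ := conj_of_mem_N hR hT hnN hm (negF hT s)
  have hp : permOf ⟨N₀, hm⟩ = π := hπ'.symm
  rw [hp] at e₁ e₂
  have e₃ : π (negF hT s) = negF hT (π s) := σW_neg hR hT _ s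
  rw [e₃] at e₂
  let α : (SL₂ K) →* GL D.Idx K := (MulAut.conj N₀).toMonoidHom.comp (psi hR hT hc hη s)
  let β := psi hR hT hc hη (π s)
  have hαa : ∀ a, α a = N₀ * psi hR hT hc hη s a * N₀⁻¹ := fun a => rfl
  have hαX : ∀ t, α (SL2Hom.X t) = β (SL2Hom.X (κ₁ * t)) := by
    intro t
    rw [hαa, psi_X, e₁, psi_X]
  have hαY : ∀ t, α (SL2Hom.Y t) = β (SL2Hom.Y (κ₂ * t)) := by
    intro t
    rw [hαa, psi_Y]
    have := e₂ t
    rw [psi_Y]
    exact this
  have hβ : Function.Injective β := psi_inj hR hT hc hη hnb _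
  have hκ : κ₁ * κ₂ = 1 := by
    apply conj_entry h₁
    apply hβ
    have h1 := congrArg α (Wm_conj (1 : K))
    simp only [map_mul, hαX, hαY, mul_one] at h1
    simp only [map_mul]
    rw [show κ₂ * -1 = -κ₂ by ring] at h1
    exact h1
  have hκ' : κ₂ = κ₁⁻¹ := eq_inv_of_mul_eq_one_right hκ
  refine ⟨Dk κ₁ h₁, ?_⟩
  have h : α = β.comp (Cj (Dk κ₁ h₁)) := by
    apply sl2_hom_ext
    · intro t
      show α (SL2Hom.X t) = β (Cj (Dk κ₁ h₁) (SL2Hom.X t))
      rw [Cj_Dk_X, hαX]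
    · intro t
      show α (SL2Hom.Y t) = β (Cj (Dk κ₁ h₁) (SL2Hom.Y t))
      rw [Cj_Dk_Y, hαY, hκ']
  intro a
  exact congrArg (fun f => f a) h

/-- Elements moving one homomorphism to another. -/
def Moves (s s' : Fin D.nroots) (y : GL D.Idx K) : Prop :=
  ∃ A : GL (Fin 2) K, ∀ a : SL₂ K, y * psi hR hT hc hη s a * y⁻¹ = psi hR hT hc hη s' (Cj A a)

theorem Moves.comp {s s' s'' : Fin D.nroots} {y y' : GL D.Idx K} (h : Moves hR hT hc hη s s' y)
    (h' : Moves hR hT hc hη s' s'' y') : Moves hR hT hc hη s s'' (y' * y) := by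
  obtain ⟨A, hA⟩ := h
  obtain ⟨A', hA'⟩ := h'
  refine ⟨A' * A, fun a => ?_⟩
  rw [Cj_mul, ← hA', ← hA]
  group

theorem moves_psi (s : Fin D.nroots) (b : SL₂ K) : Moves hR hT hc hη s s (psi hR hT hc hη s b) := by
  refine ⟨SpecialLinearGroup.toGL b, fun a => ?_⟩
  rw [Cj_toGL, map_mul, map_mul, map_inv]

theorem moves_comm (s : Fin D.nroots) {y : GL D.Idx K} (h1 : ∀ t, Commute y (X hR.toAddRel s t))
    (h2 : ∀ t, Commute y (X hR.toAddRel (D.neg s) t)) : Moves hR hT hc hη s s y := by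
  refine ⟨1, fun a => ?_⟩
  rw [Cj_one]
  have h3 := psi_mem hR hT hc hη s (Subgroup.centralizer {y})
    (fun t => Subgroup.mem_centralizer_singleton_iff.mpr (h1 t).symm.eq)
    (fun t => Subgroup.mem_centralizer_singleton_iff.mpr (h2 t).symm.eq) a
  have h4 := Subgroup.mem_centralizer_singleton_iff.mp h3
  rw [← h4]
  group

include hT in
/-- Commutation of root elements for orthogonal roots. -/
theorem comm_orth (hS : SL D) (hL : Lt (gram D)) (hdiag : ∀ i, gram D i i = 2)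
    (hcr : ∀ s t : Fin D.nroots, crV D s = crV D t → s = t)
    (hpos : ∀ s s' : Fin D.nroots, D.IsPosRoot s → D.IsPosRoot s' → Ad D (cr D s) s' = 0 →
      ∀ t u : K, Commute (X hR.toAddRel s t) (X hR.toAddRel s' u))
    (s s' : Fin D.nroots) (h : Ad D (cr D s) s' = 0) (t u : K) :
    Commute (X hR.toAddRel s t) (X hR.toAddRel s' u) := by
  have hneg : ∀ p : Fin D.nroots, crV D (negF hT p) = - crV D p := by
    intro p
    funext j
    exact hT.coroot_neg p p.2 j j.2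
  have hsymm : ∀ p r : Fin D.nroots, Ad D (cr D p) r = Ad D (cr D r) p := by
    intro p r
    rw [← B_crV_crV hS, ← B_crV_crV hS]
    exact hL.symm _ _
  have hneg_l : ∀ p r : Fin D.nroots, Ad D (cr D (negF hT p)) r = - Ad D (cr D p) r := by
    intro p r
    rw [← B_crV_crV hS, ← B_crV_crV hS, hneg]
    simp [B, Matrix.mulVec_neg, dotProduct_neg]
  -- flipping the sign of one root
  have flip : ∀ p r : Fin D.nroots, Ad D (cr D p) r = 0 →
      (∀ t u : K, Commute (X hR.toAddRel (negF hT p) t) (X hR.toAddRel r u)) →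
      ∀ t u : K, Commute (X hR.toAddRel p t) (X hR.toAddRel r u) := by
    intro p r hpr hc₀ t u
    obtain ⟨w, i, hwi⟩ := exists_alpha hR hT p
    have hrf : ∀ x, matW hR hT (rf hR hT w i) *ᵥ x = x - B (gram D) (crV D p) x • crV D p := by
      intro x
      rw [matW_rf hR hT hS]
      show x - B (gram D) (crV D (σW hR hT w (alphaR hT i))) x • crV D (σW hR hT w (alphaR hT i)) = _
      rw [hwi]
    obtain ⟨n, hn⟩ := QuotientGroup.mk_surjective (rf hR hT w i)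
    set N₀ : GL D.Idx K := ((n : ↥(D.group K)) : GL D.Idx K) with hN₀
    have hnN : N₀ ∈ D.monomialSubgroup K := (mem_PN hR hT).1 n.2
    have hm := mem_mono_of_N hR hT hnN
    have hπ : permOf ⟨N₀, hm⟩ = σW hR hT (rf hR hT w i) := by
      rw [← hn]
      rfl
    have hp1 : σW hR hT (rf hR hT w i) p = negF hT p := by
      apply hcr
      rw [← matW_crV, hrf, crV_norm hR hT hS hdiag, hneg]
      funext j
      simp
      ring
    have hp2 : σW hR hT (rf hR hT w i) r = r := by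
      apply hcr
      rw [← matW_crV, hrf, B_crV_crV hS, hsymm, hpr]
      simp
    obtain ⟨κ₁, -, e₁⟩ := conj_of_mem_N hR hT hnN hm p
    obtain ⟨κ₂, -, e₂⟩ := conj_of_mem_N hR hT hnN hm r
    rw [hπ, hp1] at e₁
    rw [hπ, hp2] at e₂
    have h1 := (hc₀ (κ₁ * t) (κ₂ * u)).eq
    rw [← e₁, ← e₂] at h1
    have h2 : N₀ * (X hR.toAddRel p t * X hR.toAddRel r u) * N₀⁻¹ = N₀ * (X hR.toAddRel r u * X hR.toAddRel p t) * N₀⁻¹ := by
      calc N₀ * (X hR.toAddRel p t * X hR.toAddRel r u) * N₀⁻¹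
          = (N₀ * X hR.toAddRel p t * N₀⁻¹) * (N₀ * X hR.toAddRel r u * N₀⁻¹) := by group
        _ = (N₀ * X hR.toAddRel r u * N₀⁻¹) * (N₀ * X hR.toAddRel p t * N₀⁻¹) := h1
        _ = _ := by group
    exact mul_left_cancel (mul_right_cancel h2)
  have step2 : ∀ p r : Fin D.nroots, D.IsPosRoot p → Ad D (cr D p) r = 0 →
      ∀ t u : K, Commute (X hR.toAddRel p t) (X hR.toAddRel r u) := by
    intro p r hp hpr
    rcases hT.pos_or_neg r.2 with hr | hr
    · exact hpos p r hp hr hpr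
    · have h1 : D.IsPosRoot (negF hT r) := hT.pos_of_neg hr
      have h2 : Ad D (cr D (negF hT r)) p = 0 := by
        rw [hneg_l, hsymm, hpr, neg_zero]
      have h3 := flip r p (by rw [hsymm, hpr]) (hpos (negF hT r) p h1 hp h2)
      exact fun t u => (h3 u t).symm
  rcases hT.pos_or_neg s.2 with hs | hs
  · exact step2 s s' hs h t u
  · have h1 : D.IsPosRoot (negF hT s) := hT.pos_of_neg hs
    exact flip s s' h (step2 (negF hT s) s' h1 (by rw [hneg_l, h, neg_zero])) t u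

/-- Elements of the group generated by root elements orthogonal to a root, up to the root itself. -/
theorem moves_gen (hS : SL D) (hL : Lt (gram D))
    (hcomm : ∀ (s s' : Fin D.nroots), Ad D (cr D s) s' = 0 → ∀ t u : K,
      Commute (X hR.toAddRel s t) (X hR.toAddRel s' u))
    (s : Fin D.nroots) (Ψ : Set ℕ)
    (hΨ : ∀ p ∈ Ψ, p = s ∨ p = D.neg s ∨ ∃ hp : p < D.nroots, Ad D (cr D s) (⟨p, hp⟩ : Fin D.nroots) = 0)
    {y : GL D.Idx K} (hy : y ∈ gen hR.toAddRel Ψ) : Moves hR hT hc hη s s y := by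
  refine gen_induction hR.toAddRel (P := fun y => Moves hR hT hc hη s s y) ?_ ?_ ?_ hy
  · have := moves_psi hR hT hc hη s 1
    rwa [map_one] at this
  · intro r hr t
    rcases hΨ r hr with h | h | ⟨hp, h⟩
    · rw [h, ← psi_X hR hT hc hη]
      exact moves_psi _ _ _ _ _ _
    · rw [h, ← psi_Y hR hT hc hη]
      exact moves_psi _ _ _ _ _ _
    · have hneg : Ad D (cr D (negF hT s)) (⟨r, hp⟩ : Fin D.nroots) = 0 := by
        have h1 : crV D (negF hT s) = - crV D s := by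
          funext j
          exact hT.coroot_neg s s.2 j j.2
        have h2 : Ad D (cr D (negF hT s)) (⟨r, hp⟩ : Fin D.nroots) = - Ad D (cr D s) (⟨r, hp⟩ : Fin D.nroots) := by
          rw [← B_crV_crV hS, ← B_crV_crV hS, h1]
          simp [B, Matrix.mulVec_neg, dotProduct_neg]
        rw [h2, h, neg_zero]
      apply moves_comm
      · intro u
        exact (hcomm s ⟨r, hp⟩ h u t).symm
      · intro u
        exact (hcomm (negF hT s) ⟨r, hp⟩ hneg u t).symm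
  · intro a b ha hb
    exact Moves.comp _ _ _ _ hb ha

end

end Cfsg.Agent.Lib.ChevTori.RootSL2
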