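import Cfsg.Agent.Lib.Chevalley.SL2Hom

/-!
Semilinear automorphisms of `SL₂(K)` over a finite field: Hilbert's Theorem 90 in rank two, and elements of
the nonsplit torus of the fixed points.
-/

set_option autoImplicit false
set_option linter.unusedSectionVars false

namespace Cfsg.Agent.Lib.ChevTori.SL2Lang

open Matrix Polynomial
open Cfsg.Agent.Lib.Chevalley.SL2Hom (X Y sl2_ext)

variable {K : Type*} [Field K]

local notation "SL₂" => SpecialLinearGroup (Fin 2) K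
local notation "GL₂" => GL (Fin 2) K

/-- Conjugation of `SL₂` by an element of `GL₂`. -/
noncomputable def Cj (A : GL₂) : SL₂ →* SL₂ where
  toFun a := ⟨(A : Matrix (Fin 2) (Fin 2) K) * a.1 * ((A⁻¹ : GL₂) : Matrix (Fin 2) (Fin 2) K), by
    rw [det_mul, det_mul, a.2, mul_one, ← det_mul, ← Units.val_mul, mul_inv_cancel]
    simp⟩
  map_one' := by
    apply Subtype.ext
    show (A : Matrix (Fin 2) (Fin 2) K) * 1 * ((A⁻¹ : GL₂) : Matrix (Fin 2) (Fin 2) K) = 1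
    rw [Matrix.mul_one, ← Units.val_mul, mul_inv_cancel]
    rfl
  map_mul' a b := by
    apply Subtype.ext
    show (A : Matrix (Fin 2) (Fin 2) K) * (a.1 * b.1) * ((A⁻¹ : GL₂) : Matrix (Fin 2) (Fin 2) K) =
      ((A : Matrix (Fin 2) (Fin 2) K) * a.1 * ((A⁻¹ : GL₂) : Matrix (Fin 2) (Fin 2) K)) *
        ((A : Matrix (Fin 2) (Fin 2) K) * b.1 * ((A⁻¹ : GL₂) : Matrix (Fin 2) (Fin 2) K))
    have h : ((A⁻¹ : GL₂) : Matrix (Fin 2) (Fin 2) K) * (A : Matrix (Fin 2) (Fin 2) K) = 1 := by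
      rw [← Units.val_mul, inv_mul_cancel]
      rfl
    calc (A : Matrix (Fin 2) (Fin 2) K) * (a.1 * b.1) * ((A⁻¹ : GL₂) : Matrix (Fin 2) (Fin 2) K)
        = (A : Matrix (Fin 2) (Fin 2) K) * a.1 * 1 * b.1 * ((A⁻¹ : GL₂) : Matrix (Fin 2) (Fin 2) K) := by
          simp [Matrix.mul_assoc]
      _ = _ := by
          rw [← h]
          simp only [Matrix.mul_assoc]

theorem Cj_val (A : GL₂) (a : SL₂) : (Cj A a).1 =
    (A : Matrix (Fin 2) (Fin 2) K) * a.1 * ((A⁻¹ : GL₂) : Matrix (Fin 2) (Fin 2) K) := rfl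

theorem Cj_eq_iff {A : GL₂} {a b : SL₂} :
    Cj A a = b ↔ (A : Matrix (Fin 2) (Fin 2) K) * a.1 = b.1 * (A : Matrix (Fin 2) (Fin 2) K) := by
  have h : ((A⁻¹ : GL₂) : Matrix (Fin 2) (Fin 2) K) * (A : Matrix (Fin 2) (Fin 2) K) = 1 := by
    rw [← Units.val_mul, inv_mul_cancel]
    rfl
  constructor
  · intro e
    rw [← e, Cj_val, Matrix.mul_assoc _ _ (A : Matrix (Fin 2) (Fin 2) K), h, Matrix.mul_one]
  · intro e
    apply Subtype.ext
    rw [Cj_val, e, Matrix.mul_assoc, ← Units.val_mul, mul_inv_cancel]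
    simp

theorem Cj_mul (A B : GL₂) (a : SL₂) : Cj (A * B) a = Cj A (Cj B a) := by
  apply Cj_eq_iff.mpr
  rw [Units.val_mul, Cj_val, Cj_val]
  have h : ((A⁻¹ : GL₂) : Matrix (Fin 2) (Fin 2) K) * (A : Matrix (Fin 2) (Fin 2) K) = 1 := by
    rw [← Units.val_mul, inv_mul_cancel]
    rfl
  have h' : ((B⁻¹ : GL₂) : Matrix (Fin 2) (Fin 2) K) * (B : Matrix (Fin 2) (Fin 2) K) = 1 := by
    rw [← Units.val_mul, inv_mul_cancel]
    rfl
  calc (A : Matrix (Fin 2) (Fin 2) K) * B * a.1 = (A : Matrix (Fin 2) (Fin 2) K) * B * a.1 * 1 := by simp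
    _ = (A : Matrix (Fin 2) (Fin 2) K) * B * a.1 * (((B⁻¹ : GL₂) : Matrix (Fin 2) (Fin 2) K) * B) := by rw [h']
    _ = (A : Matrix (Fin 2) (Fin 2) K) * (B * a.1 * ((B⁻¹ : GL₂) : Matrix (Fin 2) (Fin 2) K)) * B := by
      simp only [Matrix.mul_assoc]
    _ = (A : Matrix (Fin 2) (Fin 2) K) * (B * a.1 * ((B⁻¹ : GL₂) : Matrix (Fin 2) (Fin 2) K)) * 1 * B := by simp
    _ = _ := by
      rw [← h]
      simp only [Matrix.mul_assoc]

theorem Cj_one (a : SL₂) : Cj (1 : GL₂) a = a := by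
  apply Cj_eq_iff.mpr
  simp

/-- Conjugation by a scalar multiple. -/
theorem Cj_smul {A A' : GL₂} {c : K} (h : (A : Matrix (Fin 2) (Fin 2) K) = c • (A' : Matrix (Fin 2) (Fin 2) K))
    (a : SL₂) : Cj A a = Cj A' a := by
  apply Cj_eq_iff.mpr
  have h1 := Cj_eq_iff.mp (rfl : Cj A' a = Cj A' a)
  rw [h, Matrix.smul_mul, Matrix.mul_smul, h1]

/-- The map on `SL₂` induced by a ring map. -/
noncomputable abbrev Fr (σ : K →+* K) : SL₂ →* SL₂ := SpecialLinearGroup.map σ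

/-- The map on `GL₂` induced by a ring map. -/
noncomputable abbrev Frg (σ : K →+* K) : GL₂ →* GL₂ := GeneralLinearGroup.map σ

theorem Fr_val (σ : K →+* K) (a : SL₂) : (Fr σ a).1 = a.1.map σ := rfl

theorem Frg_val (σ : K →+* K) (A : GL₂) :
    ((Frg σ A : GL₂) : Matrix (Fin 2) (Fin 2) K) = (A : Matrix (Fin 2) (Fin 2) K).map σ := rfl

theorem Fr_Cj (σ : K →+* K) (A : GL₂) (a : SL₂) : Fr σ (Cj A a) = Cj (Frg σ A) (Fr σ a) := by
  symm
  apply Cj_eq_iff.mpr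
  rw [Fr_val, Fr_val, Frg_val]
  have h1 := Cj_eq_iff.mp (rfl : Cj A a = Cj A a)
  have h2 := congrArg (fun m : Matrix (Fin 2) (Fin 2) K => m.map σ) h1
  have hmul : ∀ m n : Matrix (Fin 2) (Fin 2) K, (m * n).map σ = m.map σ * n.map σ :=
    fun m n => Matrix.map_mul
  rw [hmul, hmul] at h2
  exact h2

theorem Fr_Fr (σ τ : K →+* K) (a : SL₂) : Fr σ (Fr τ a) = Fr (σ.comp τ) a := by
  apply Subtype.ext
  rw [Fr_val, Fr_val, Fr_val, Matrix.map_map]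
  rfl

theorem Frg_Frg (σ τ : K →+* K) (A : GL₂) : Frg σ (Frg τ A) = Frg (σ.comp τ) A := by
  apply Units.ext
  rw [Frg_val, Frg_val, Frg_val, Matrix.map_map]
  rfl

theorem Cj_Fr_Cj (σ τ : K →+* K) (A A' : GL₂) (a : SL₂) :
    Cj A (Fr σ (Cj A' (Fr τ a))) = Cj (A * Frg σ A') (Fr (σ.comp τ) a) := by
  rw [Fr_Cj, ← Cj_mul, Fr_Fr]

/-! ### Hilbert 90 -/

section H90

variable (θ : K →+* K)

/-- Apply the ring map to the coordinates of a vector. -/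
def tv (v : Fin 2 → K) : Fin 2 → K := fun i => θ (v i)

theorem tv_mulVec (A : Matrix (Fin 2) (Fin 2) K) (v : Fin 2 → K) :
    tv θ (A *ᵥ v) = A.map θ *ᵥ tv θ v := by
  funext i
  simp [tv, Matrix.mulVec, dotProduct, Fin.sum_univ_two]

theorem tv_smul (c : K) (v : Fin 2 → K) : tv θ (c • v) = θ c • tv θ v := by
  funext i
  simp [tv]

/-- Hilbert's Theorem 90 in rank two. -/
theorem h90 (h4 : ∀ a, θ (θ (θ (θ a))) = a)
    (hded : ∀ c₀ c₁ c₂ c₃ : K, (∀ x : K, c₀ * x + c₁ * θ x + c₂ * θ (θ x) + c₃ * θ (θ (θ x)) = 0) → c₀ = 0)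
    {B : Matrix (Fin 2) (Fin 2) K}
    (hB : B * (B.map θ * ((B.map θ).map θ * ((B.map θ).map θ).map θ)) = 1) :
    ∃ P : Matrix (Fin 2) (Fin 2) K, P.det ≠ 0 ∧ B * P.map θ = P := by
  set T := fun M : Matrix (Fin 2) (Fin 2) K => M.map θ with hT
  have hTmul : ∀ m n : Matrix (Fin 2) (Fin 2) K, (m * n).map θ = m.map θ * n.map θ :=
    fun m n => Matrix.map_mul
  let B₂ := B * B.map θ
  let B₃ := B * (B.map θ * (B.map θ).map θ)
  let S : (Fin 2 → K) → (Fin 2 → K) := fun x => B *ᵥ tv θ x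
  let Tr : (Fin 2 → K) → (Fin 2 → K) := fun v =>
    v + B *ᵥ tv θ v + B₂ *ᵥ tv θ (tv θ v) + B₃ *ᵥ tv θ (tv θ (tv θ v))
  have htv4 : ∀ v, tv θ (tv θ (tv θ (tv θ v))) = v := by
    intro v
    funext i
    exact h4 _
  have hS : ∀ v, S (Tr v) = Tr v := by
    intro v
    have e1 : ∀ x y : Fin 2 → K, S (x + y) = S x + S y := by
      intro x y
      show B *ᵥ tv θ (x + y) = _
      have : tv θ (x + y) = tv θ x + tv θ y := by
        funext i
        simp [tv]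
      rw [this, Matrix.mulVec_add]
    simp only [Tr]
    rw [e1, e1, e1]
    have e2 : S v = B *ᵥ tv θ v := rfl
    have e3 : S (B *ᵥ tv θ v) = B₂ *ᵥ tv θ (tv θ v) := by
      show B *ᵥ tv θ (B *ᵥ tv θ v) = _
      rw [tv_mulVec, Matrix.mulVec_mulVec]
    have e4 : S (B₂ *ᵥ tv θ (tv θ v)) = B₃ *ᵥ tv θ (tv θ (tv θ v)) := by
      show B *ᵥ tv θ (B₂ *ᵥ tv θ (tv θ v)) = _
      rw [tv_mulVec, Matrix.mulVec_mulVec]
      simp only [B₂, B₃, hTmul]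
    have e5 : S (B₃ *ᵥ tv θ (tv θ (tv θ v))) = v := by
      show B *ᵥ tv θ (B₃ *ᵥ tv θ (tv θ (tv θ v))) = _
      rw [tv_mulVec, Matrix.mulVec_mulVec, htv4]
      have : B * B₃.map θ = 1 := by
        simp only [B₃, hTmul]
        exact hB
      rw [this, Matrix.one_mulVec]
    rw [e2, e3, e4, e5]
    abel
  have hTs : ∀ (c : K) (v : Fin 2 → K), Tr (c • v) = c • v + θ c • (B *ᵥ tv θ v) +
      θ (θ c) • (B₂ *ᵥ tv θ (tv θ v)) + θ (θ (θ c)) • (B₃ *ᵥ tv θ (tv θ (tv θ v))) := by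
    intro c v
    simp only [Tr, tv_smul, Matrix.mulVec_smul]
  have hann : ∀ a b : K, (∀ x, S x = x → a * x 0 + b * x 1 = 0) → a = 0 ∧ b = 0 := by
    intro a b h
    have key : ∀ v : Fin 2 → K, a * v 0 + b * v 1 = 0 := by
      intro v
      apply hded _ (a * (B *ᵥ tv θ v) 0 + b * (B *ᵥ tv θ v) 1)
        (a * (B₂ *ᵥ tv θ (tv θ v)) 0 + b * (B₂ *ᵥ tv θ (tv θ v)) 1)
        (a * (B₃ *ᵥ tv θ (tv θ (tv θ v))) 0 + b * (B₃ *ᵥ tv θ (tv θ (tv θ v))) 1)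
      intro c
      have h1 := h _ (hS (c • v))
      rw [hTs] at h1
      simp only [Pi.add_apply, Pi.smul_apply, smul_eq_mul] at h1
      linear_combination h1
    have h0 := key ![1, 0]
    have h1 := key ![0, 1]
    simp at h0 h1
    exact ⟨h0, h1⟩
  obtain ⟨x₁, hx₁, hx₁0⟩ : ∃ x, S x = x ∧ x ≠ 0 := by
    by_contra hcon
    push Not at hcon
    have := (hann 1 0 (fun x hx => by rw [hcon x hx]; simp)).1
    exact one_ne_zero this
  obtain ⟨x₂, hx₂, hx₂0⟩ : ∃ x, S x = x ∧ x₁ 1 * x 0 + (- x₁ 0) * x 1 ≠ 0 := by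
    by_contra hcon
    push Not at hcon
    obtain ⟨h5, h6⟩ := hann (x₁ 1) (- x₁ 0) hcon
    apply hx₁0
    funext i
    fin_cases i
    · exact neg_eq_zero.mp h6
    · exact h5
  refine ⟨!![x₁ 0, x₂ 0; x₁ 1, x₂ 1], ?_, ?_⟩
  · rw [Matrix.det_fin_two_of]
    intro h0
    apply hx₂0
    linear_combination -h0
  · have h5 := congrFun hx₁ 0
    have h6 := congrFun hx₁ 1
    have h7 := congrFun hx₂ 0
    have h8 := congrFun hx₂ 1
    simp only [S, tv, Matrix.mulVec, dotProduct, Fin.sum_univ_two] at h5 h6 h7 h8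
    ext i j
    fin_cases i <;> fin_cases j <;>
      simp [Matrix.mul_apply, Fin.sum_univ_two] <;> assumption

end H90

/-! ### The Dedekind property -/

theorem dedekind0 [Finite K] {Q : ℕ} (hQ : 2 ≤ Q) (hK : Nat.card K = Q ^ 4) (c₀ c₁ c₂ c₃ : K)
    (h : ∀ x : K, c₀ * x + c₁ * x ^ Q + c₂ * x ^ (Q ^ 2) + c₃ * x ^ (Q ^ 3) = 0) : c₀ = 0 := by
  classical
  haveI := Fintype.ofFinite K
  set p : K[X] := C c₀ * Polynomial.X + C c₁ * Polynomial.X ^ Q + C c₂ * Polynomial.X ^ (Q ^ 2) +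
    C c₃ * Polynomial.X ^ (Q ^ 3) with hp
  have hQ1 : Q ≤ Q ^ 3 := by
    calc Q = Q ^ 1 := (pow_one Q).symm
      _ ≤ Q ^ 3 := Nat.pow_le_pow_right (by omega) (by norm_num)
  have hQ2 : Q ^ 2 ≤ Q ^ 3 := Nat.pow_le_pow_right (by omega) (by norm_num)
  have hQ3 : 1 ≤ Q ^ 3 := Nat.one_le_pow _ _ (by omega)
  have hdeg : p.natDegree ≤ Q ^ 3 := by
    rw [hp]
    compute_degree
    all_goals omega
  have hlt : p.natDegree < Fintype.card K := by
    rw [← Nat.card_eq_fintype_card, hK]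
    have : Q ^ 3 < Q ^ 4 := Nat.pow_lt_pow_right (by omega) (by norm_num)
    omega
  have h0 : p = 0 := by
    apply Polynomial.eq_zero_of_natDegree_lt_card_of_eval_eq_zero p (Function.injective_id) _ hlt
    intro x
    simp [hp, h x]
  have h1 := congrArg (fun f => coeff f 1) h0
  have hne1 : (1 : ℕ) ≠ Q := by omega
  have hne2 : (1 : ℕ) ≠ Q ^ 2 := by
    have : Q ≤ Q ^ 2 := by
      calc Q = Q ^ 1 := (pow_one Q).symm
        _ ≤ Q ^ 2 := Nat.pow_le_pow_right (by omega) (by norm_num)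
    omega
  have hne3 : (1 : ℕ) ≠ Q ^ 3 := by omega
  simpa [hp, coeff_X, coeff_X_pow, hne1, hne2, hne3] using h1

/-! ### The norm -/

theorem exists_norm [Finite K] {Q : ℕ} (hQ : 2 ≤ Q) (hK : Nat.card K = Q ^ 4) (κ : Kˣ)
    (hκ : κ ^ Q = κ) : ∃ μ : Kˣ, μ ^ (1 + Q + Q ^ 2 + Q ^ 3) = κ := by
  classical
  obtain ⟨γ, hγ⟩ := IsCyclic.exists_generator (α := Kˣ)
  have hord : orderOf γ = Q ^ 4 - 1 := by
    rw [orderOf_eq_card_of_forall_mem_zpowers hγ, Nat.card_units, hK]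
  have hE : Q ^ 4 - 1 = (Q - 1) * (1 + Q + Q ^ 2 + Q ^ 3) := by
    obtain ⟨a, rfl⟩ : ∃ a, Q = a + 1 := ⟨Q - 1, by omega⟩
    simp only [Nat.add_sub_cancel]
    have : (a + 1) ^ 4 = a * (1 + (a + 1) + (a + 1) ^ 2 + (a + 1) ^ 3) + 1 := by ring
    omega
  obtain ⟨k, hk⟩ := mem_powers_iff_mem_zpowers.mpr (hγ κ)
  have h1 : κ ^ (Q - 1) = 1 := by
    have h2 : κ ^ ((Q - 1) + 1) = κ := by
      rw [Nat.sub_add_cancel (by omega)]
      exact hκ
    rw [pow_succ] at h2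
    exact mul_eq_right.mp h2
  rw [← hk, ← pow_mul] at h1
  have h2 := orderOf_dvd_of_pow_eq_one h1
  rw [hord, hE, mul_comm k] at h2
  have h3 : (1 + Q + Q ^ 2 + Q ^ 3) ∣ k :=
    Nat.dvd_of_mul_dvd_mul_left (by omega) h2
  obtain ⟨m, rfl⟩ := h3
  exact ⟨γ ^ m, by rw [← hk, ← pow_mul, mul_comm]⟩

/-! ### Diagonal elements -/

/-- The diagonal element. -/
def dg : Kˣ →* SL₂ where
  toFun ξ := ⟨!![(ξ : K), 0; 0, ((ξ⁻¹ : Kˣ) : K)], by simp [Matrix.det_fin_two]⟩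
  map_one' := by
    apply sl2_ext <;> simp
  map_mul' a b := by
    apply Subtype.ext
    show !![((a * b : Kˣ) : K), 0; 0, (((a * b)⁻¹ : Kˣ) : K)] =
      !![(a : K), 0; 0, ((a⁻¹ : Kˣ) : K)] * !![(b : K), 0; 0, ((b⁻¹ : Kˣ) : K)]
    ext i j
    fin_cases i <;> fin_cases j <;> simp [Matrix.mul_apply, Fin.sum_univ_two, mul_comm]

theorem dg_val (ξ : Kˣ) : (dg ξ).1 = !![(ξ : K), 0; 0, ((ξ⁻¹ : Kˣ) : K)] := rfl

/-- Diagonalizable with eigenvalue `ξ`. -/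
def IsDg (b : SL₂) (ξ : Kˣ) : Prop :=
  ∃ Z : GL₂, b.1 * (Z : Matrix (Fin 2) (Fin 2) K) = (Z : Matrix (Fin 2) (Fin 2) K) * (dg ξ).1

/-- The conjugating element can be taken in `SL₂`. -/
theorem IsDg.exists_sl {b : SL₂} {ξ : Kˣ} (h : IsDg b ξ) : ∃ z : SL₂, b * z = z * dg ξ := by
  obtain ⟨Z, hZ⟩ := h
  have hdet : (Z : Matrix (Fin 2) (Fin 2) K).det ≠ 0 := by
    intro h0
    have := (Matrix.isUnit_iff_isUnit_det _).mp Z.isUnit
    rw [h0] at this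
    exact not_isUnit_zero this
  let δ := ((Z : Matrix (Fin 2) (Fin 2) K).det)⁻¹
  let E : Matrix (Fin 2) (Fin 2) K := !![δ, 0; 0, 1]
  have hE : (dg ξ).1 * E = E * (dg ξ).1 := by
    rw [dg_val]
    ext i j
    fin_cases i <;> fin_cases j <;> simp [E, Matrix.mul_apply, Fin.sum_univ_two, mul_comm]
  refine ⟨⟨(Z : Matrix (Fin 2) (Fin 2) K) * E, ?_⟩, ?_⟩
  · rw [det_mul, Matrix.det_fin_two_of]
    simp [δ, hdet]
  · apply Subtype.ext
    show b.1 * ((Z : Matrix (Fin 2) (Fin 2) K) * E) = ((Z : Matrix (Fin 2) (Fin 2) K) * E) * (dg ξ).1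
    rw [← Matrix.mul_assoc, hZ, Matrix.mul_assoc, hE, Matrix.mul_assoc]

theorem IsDg.pow_eq_one {b : SL₂} {ξ : Kˣ} (h : IsDg b ξ) {n : ℕ} (hn : ξ ^ n = 1) : b ^ n = 1 := by
  obtain ⟨z, hz⟩ := h.exists_sl
  have e : b = z * dg ξ * z⁻¹ := by
    rw [← hz]
    group
  rw [e, conj_pow, ← map_pow, hn, map_one]
  group

/-- The step of the twisted map. -/
theorem IsDg.step {b : SL₂} {ξ : Kˣ} (h : IsDg b ξ) (σ : K →+* K) (A : GL₂) :
    IsDg (Cj A (Fr σ b)) (Units.map σ ξ) := by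
  obtain ⟨Z, hZ⟩ := h
  refine ⟨A * Frg σ Z, ?_⟩
  have h1 := congrArg (fun m : Matrix (Fin 2) (Fin 2) K => m.map σ) hZ
  have hmul : ∀ m n : Matrix (Fin 2) (Fin 2) K, (m * n).map σ = m.map σ * n.map σ :=
    fun m n => Matrix.map_mul
  simp only [hmul] at h1
  have h2 : ((A⁻¹ : GL₂) : Matrix (Fin 2) (Fin 2) K) * (A : Matrix (Fin 2) (Fin 2) K) = 1 := by
    rw [← Units.val_mul, inv_mul_cancel]
    rfl
  have hd : (dg ξ).1.map σ = (dg (Units.map (σ : K →* K) ξ)).1 := by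
    rw [dg_val, dg_val]
    ext i j
    fin_cases i <;> fin_cases j <;> simp
  rw [Units.val_mul, Cj_val, Fr_val, Frg_val]
  calc (A : Matrix (Fin 2) (Fin 2) K) * b.1.map σ * ((A⁻¹ : GL₂) : Matrix (Fin 2) (Fin 2) K) *
        ((A : Matrix (Fin 2) (Fin 2) K) * (Z : Matrix (Fin 2) (Fin 2) K).map σ)
      = (A : Matrix (Fin 2) (Fin 2) K) * b.1.map σ * (((A⁻¹ : GL₂) : Matrix (Fin 2) (Fin 2) K) *
        (A : Matrix (Fin 2) (Fin 2) K)) * (Z : Matrix (Fin 2) (Fin 2) K).map σ := by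
        simp only [Matrix.mul_assoc]
    _ = (A : Matrix (Fin 2) (Fin 2) K) * (b.1.map σ * (Z : Matrix (Fin 2) (Fin 2) K).map σ) := by
        rw [h2, Matrix.mul_one, Matrix.mul_assoc]
    _ = (A : Matrix (Fin 2) (Fin 2) K) * ((Z : Matrix (Fin 2) (Fin 2) K).map σ * (dg ξ).1.map σ) := by
        rw [h1]
    _ = _ := by
        rw [hd, Matrix.mul_assoc]

section Main

variable [Finite K] (σ : K →+* K) {q : ℕ}

/-- The composition of three twisted maps. -/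
noncomputable def rhoMap (A₀ A₁ A₂ : GL₂) (a : SL₂) : SL₂ :=
  Cj A₂ (Fr σ (Cj A₁ (Fr σ (Cj A₀ (Fr σ a)))))

omit [Finite K] in
/-- A matrix commuting with `SL₂` is scalar. -/
theorem scalar_of_central (C : GL₂) (h : ∀ a : SL₂, Cj C a = a) :
    ∃ κ : Kˣ, (C : Matrix (Fin 2) (Fin 2) K) = (κ : K) • 1 := by
  have hX := Cj_eq_iff.mp (h (X 1))
  have hY := Cj_eq_iff.mp (h (Y 1))
  have hCv : ∀ i j, (X (1 : K)).1 i j = (!![1, 1; 0, 1] : Matrix (Fin 2) (Fin 2) K) i j := fun _ _ => rfl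
  have hYv : ∀ i j, (Y (1 : K)).1 i j = (!![1, 0; 1, 1] : Matrix (Fin 2) (Fin 2) K) i j := fun _ _ => rfl
  have e00 := congrFun (congrFun hX 0) 0
  have e01 := congrFun (congrFun hX 0) 1
  have f00 := congrFun (congrFun hY 0) 0
  simp only [Matrix.mul_apply, Fin.sum_univ_two, hCv] at e00 e01
  simp only [Matrix.mul_apply, Fin.sum_univ_two, hYv] at f00
  simp at e00 e01 f00
  set M : Matrix (Fin 2) (Fin 2) K := (C : Matrix (Fin 2) (Fin 2) K) with hM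
  have h10 : M 1 0 = 0 := e00
  have h01 : M 0 1 = 0 := f00
  have h11 : M 1 1 = M 0 0 := by
    have := e01
    linear_combination -this
  have hdet : M 0 0 ≠ 0 := by
    intro h0
    have h1 : M = 0 := by
      ext i j
      fin_cases i <;> fin_cases j <;> simp [h0, h10, h01, h11]
    have := C.isUnit
    rw [← hM, h1] at this
    exact not_isUnit_zero this
  refine ⟨Units.mk0 (M 0 0) hdet, ?_⟩
  ext i j
  fin_cases i <;> fin_cases j <;> simp [h10, h01, h11]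

/-- The fixed points of a semilinear map of order dividing `4` on `SL₂`. -/
theorem sl2_fixed (hσ : ∀ a, σ a = a ^ q) (hq : 2 ≤ q) (hK : Nat.card K = q ^ 12)
    (A₀ A₁ A₂ : GL₂)
    (hρ : ∀ a : SL₂, rhoMap σ A₀ A₁ A₂ (rhoMap σ A₀ A₁ A₂ (rhoMap σ A₀ A₁ A₂ (rhoMap σ A₀ A₁ A₂ a))) = a)
    (ξ : Kˣ) (hξ : ξ ^ (q ^ 3 + 1) = 1) (hξ2 : ξ ^ 2 ≠ 1) :
    ∃ b : SL₂, rhoMap σ A₀ A₁ A₂ b = b ∧ IsDg b ξ := by
  classical
  haveI := Fintype.ofFinite K
  set Q := q ^ 3 with hQdef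
  have hQ : 2 ≤ Q := by
    calc 2 ≤ q := hq
      _ = q ^ 1 := (pow_one q).symm
      _ ≤ q ^ 3 := Nat.pow_le_pow_right (by omega) (by norm_num)
  have hKQ : Nat.card K = Q ^ 4 := by
    rw [hK, hQdef, ← pow_mul]
  set θ : K →+* K := σ.comp (σ.comp σ) with hθdef
  have hθ : ∀ a, θ a = a ^ Q := by
    intro a
    show σ (σ (σ a)) = _
    rw [hσ, hσ, hσ, hQdef, ← pow_mul, ← pow_mul]
    ring_nf
  have h4 : ∀ a, θ (θ (θ (θ a))) = a := by
    intro a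
    rw [hθ, hθ, hθ, hθ, ← pow_mul, ← pow_mul, ← pow_mul]
    have : Q * (Q * (Q * Q)) = Fintype.card K := by
      rw [← Nat.card_eq_fintype_card, hKQ]
      ring
    rw [this, FiniteField.pow_card]
  have hded : ∀ c₀ c₁ c₂ c₃ : K, (∀ x : K, c₀ * x + c₁ * θ x + c₂ * θ (θ x) + c₃ * θ (θ (θ x)) = 0) →
      c₀ = 0 := by
    intro c₀ c₁ c₂ c₃ h
    apply dedekind0 hQ hKQ c₀ c₁ c₂ c₃
    intro x
    have h1 := h x
    rw [hθ, hθ, hθ, ← pow_mul, ← pow_mul] at h1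
    rw [show Q * Q * Q = Q ^ 3 by ring, show Q * Q = Q ^ 2 by ring] at h1
    exact h1
  set Bg : GL₂ := A₂ * Frg σ (A₁ * Frg σ A₀) with hBg
  have hρ1 : ∀ a : SL₂, rhoMap σ A₀ A₁ A₂ a = Cj Bg (Fr θ a) := by
    intro a
    rw [rhoMap, Cj_Fr_Cj, Cj_Fr_Cj]
    have e : (σ.comp σ).comp σ = θ := RingHom.ext fun _ => rfl
    rw [e, hBg, map_mul, Frg_Frg, mul_assoc]
  simp only [hρ1] at hρ
  have hmm : ∀ (m : Matrix (Fin 2) (Fin 2) K) (c : K), (c • m).map θ = θ c • m.map θ := by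
    intro m c
    ext i j
    simp
  set T₂ : K →+* K := θ.comp θ with hT₂
  set T₃ : K →+* K := T₂.comp θ with hT₃
  have hT₄ : T₃.comp θ = RingHom.id K := RingHom.ext h4
  set Cg : GL₂ := Bg * Frg θ Bg * Frg T₂ Bg * Frg T₃ Bg with hCg
  have hC : ∀ a : SL₂, Cj Cg a = a := by
    intro a
    have h1 := hρ a
    rw [Cj_Fr_Cj, Cj_Fr_Cj, Cj_Fr_Cj, hT₄] at h1
    have e : Fr (RingHom.id K) a = a := by
      apply Subtype.ext
      rw [Fr_val]
      ext i j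
      rfl
    rw [e] at h1
    exact h1
  obtain ⟨κ, hκ⟩ := scalar_of_central Cg hC
  have hCgm : (Cg : Matrix (Fin 2) (Fin 2) K) = (Bg : Matrix (Fin 2) (Fin 2) K) *
      ((Bg : Matrix (Fin 2) (Fin 2) K).map θ * (((Bg : Matrix (Fin 2) (Fin 2) K).map θ).map θ *
        (((Bg : Matrix (Fin 2) (Fin 2) K).map θ).map θ).map θ)) := by
    rw [hCg, Units.val_mul, Units.val_mul, Units.val_mul, Frg_val, Frg_val, Frg_val, Matrix.mul_assoc,
      Matrix.mul_assoc]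
    rw [Matrix.map_map, Matrix.map_map]
    rfl
  -- the scalar is fixed by `θ`
  have hκθ : θ (κ : K) = κ := by
    have h1 : Bg * Frg θ Cg = Cg * Bg := by
      have e1 : Frg θ Cg = Frg θ Bg * Frg T₂ Bg * Frg T₃ Bg * Bg := by
        rw [hCg, map_mul, map_mul, map_mul, Frg_Frg, Frg_Frg, Frg_Frg]
        have e2 : θ.comp T₃ = RingHom.id K := by
          rw [← hT₄]
          rfl
        rw [e2]
        have e3 : θ.comp T₂ = T₃ := rfl
        rw [e3]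
        have e4 : Frg (RingHom.id K) Bg = Bg := by
          apply Units.ext
          rw [Frg_val]
          ext i j
          rfl
        rw [e4]
      rw [e1, hCg]
      simp only [mul_assoc]
    have h2 := congrArg (fun g : GL₂ => (g : Matrix (Fin 2) (Fin 2) K)) h1
    simp only [Units.val_mul, Frg_val, hκ] at h2
    rw [hmm] at h2
    have h3 : ((1 : Matrix (Fin 2) (Fin 2) K).map θ) = 1 := by
      ext i j
      simp [Matrix.one_apply]
    rw [h3, Matrix.mul_smul, Matrix.smul_mul, Matrix.mul_one, Matrix.one_mul] at h2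
    have hdet : (Bg : Matrix (Fin 2) (Fin 2) K) ≠ 0 := by
      intro h0
      have := Bg.isUnit
      rw [h0] at this
      exact not_isUnit_zero this
    have h4' : (θ (κ : K) - κ) • (Bg : Matrix (Fin 2) (Fin 2) K) = 0 := by
      rw [sub_smul, h2, sub_self]
    rcases smul_eq_zero.mp h4' with h5 | h5
    · exact sub_eq_zero.mp h5
    · exact absurd h5 hdet
  obtain ⟨μ, hμ⟩ := exists_norm hQ hKQ κ⁻¹ (by
    rw [inv_pow]
    congr 1
    apply Units.ext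
    rw [Units.val_pow_eq_pow_val, ← hθ, hκθ])
  have hμθ : (μ : K) * (θ (μ : K) * (θ (θ (μ : K)) * θ (θ (θ (μ : K))))) * (κ : K) = 1 := by
    have h1 : (μ : K) * (θ (μ : K) * (θ (θ (μ : K)) * θ (θ (θ (μ : K))))) = ((μ ^ (1 + Q + Q ^ 2 + Q ^ 3) : Kˣ) : K) := by
      rw [hθ, hθ, hθ, Units.val_pow_eq_pow_val, ← pow_mul, ← pow_mul]
      ring_nf
    rw [h1, hμ]
    simp
  set B : Matrix (Fin 2) (Fin 2) K := (μ : K) • (Bg : Matrix (Fin 2) (Fin 2) K) with hB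
  have hBprod : B * (B.map θ * ((B.map θ).map θ * ((B.map θ).map θ).map θ)) = 1 := by
    rw [hB]
    simp only [hmm, Matrix.smul_mul, Matrix.mul_smul, smul_smul]
    rw [← hCgm, hκ, smul_smul, mul_assoc, mul_assoc] 
    have e : θ (θ (θ (μ : K))) * θ (θ (μ : K)) * (θ (μ : K) * ((μ : K) * (κ : K))) = 1 := by
      rw [← hμθ]
      ring
    rw [e, one_smul]
  obtain ⟨P, hPdet, hP⟩ := h90 θ h4 hded hBprod
  set Pg : GL₂ := GeneralLinearGroup.mkOfDetNeZero P hPdet with hPg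
  have hPgv : (Pg : Matrix (Fin 2) (Fin 2) K) = P := rfl
  have hξθ : θ (ξ : K) = ((ξ⁻¹ : Kˣ) : K) := by
    rw [hθ]
    have h1 : ξ ^ Q = ξ⁻¹ := by
      rw [eq_inv_iff_mul_eq_one, ← pow_succ]
      exact hξ
    rw [← h1, Units.val_pow_eq_pow_val]
  have hξθ' : θ ((ξ⁻¹ : Kˣ) : K) = (ξ : K) := by
    rw [Units.val_inv_eq_inv_val, map_inv₀, hξθ, Units.val_inv_eq_inv_val, inv_inv]
  have hξm : ((ξ⁻¹ : Kˣ) : K) * (ξ : K) = 1 := by simp
  -- the model element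
  let a' : SL₂ := ⟨!![0, -1; 1, (ξ : K) + ((ξ⁻¹ : Kˣ) : K)], by simp [Matrix.det_fin_two]⟩
  have ha'θ : Fr θ a' = a' := by
    apply Subtype.ext
    rw [Fr_val]
    show (!![0, -1; 1, (ξ : K) + ((ξ⁻¹ : Kˣ) : K)] : Matrix (Fin 2) (Fin 2) K).map θ = !![0, -1; 1, (ξ : K) + ((ξ⁻¹ : Kˣ) : K)]

    ext i j
    fin_cases i <;> fin_cases j <;> simp [map_add, hξθ, hξθ', add_comm]
  have hdetV : (!![1, 1; -(ξ : K), -((ξ⁻¹ : Kˣ) : K)] : Matrix (Fin 2) (Fin 2) K).det ≠ 0 := by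
    rw [Matrix.det_fin_two_of]
    intro h0
    apply hξ2
    apply Units.ext
    rw [Units.val_pow_eq_pow_val, Units.val_one]
    have h1 : (ξ : K) = ((ξ⁻¹ : Kˣ) : K) := by linear_combination h0
    rw [sq]
    nth_rewrite 1 [h1]
    exact hξm
  set V : GL₂ := GeneralLinearGroup.mkOfDetNeZero _ hdetV with hV
  have hVv : (V : Matrix (Fin 2) (Fin 2) K) = !![1, 1; -(ξ : K), -((ξ⁻¹ : Kˣ) : K)] := rfl
  have ha'V : a'.1 * (V : Matrix (Fin 2) (Fin 2) K) = (V : Matrix (Fin 2) (Fin 2) K) * (dg ξ).1 := by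
    rw [hVv, dg_val]
    show (!![0, -1; 1, (ξ : K) + ((ξ⁻¹ : Kˣ) : K)] : Matrix (Fin 2) (Fin 2) K) * _ = _
    ext i j
    have hξm' : (ξ : K)⁻¹ * (ξ : K) = 1 := inv_mul_cancel₀ ξ.ne_zero
    fin_cases i <;> fin_cases j <;>
      simp [Matrix.mul_apply, Fin.sum_univ_two] <;> linear_combination (-1 : K) * hξm'
  refine ⟨Cj Pg a', ?_, Pg * V, ?_⟩
  · rw [hρ1, Fr_Cj, ha'θ, ← Cj_mul]
    apply Cj_smul (c := ((μ⁻¹ : Kˣ) : K))
    rw [Units.val_mul, Frg_val, hPgv]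
    conv_rhs => rw [← hP]
    rw [hB, Matrix.smul_mul, smul_smul]
    simp
  · have e := Cj_eq_iff.mp (rfl : Cj Pg a' = Cj Pg a')
    rw [Units.val_mul, ← Matrix.mul_assoc, ← e, Matrix.mul_assoc, ha'V, Matrix.mul_assoc]

end Main

end Cfsg.Agent.Lib.ChevTori.SL2Lang
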